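import Cfsg.Agent.Lib.Helper92.VecPerm2
import Cfsg.Agent.Lib.Helper92.ON.NetA
import Cfsg.Agent.Lib.Helper92.ON.NetB
import Cfsg.Agent.Lib.Helper92.ON.NetC
import Cfsg.Agent.Lib.Helper92.ON.NetD
import Cfsg.Agent.Lib.Helper92.ON.NetE
import Cfsg.Agent.Lib.Helper92.ON.NetF
import Cfsg.Agent.Lib.Helper92.ON.NetG

/-! The permutation action of the O'Nan generators on 122760 points: vectorised relator checks. -/

set_option autoImplicit false

namespace Cfsg.Agent.Lib.Helper92.ON
open Cfsg.Agent.Lib.Helper92.VecPerm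

/-- the networks of the letters `a, …, g` (`0, …, 6`) -/
def nets (x : ℕ) : List (ℕ × ℕ) :=
  match x with
  | 0 => netA | 1 => netB | 2 => netC | 3 => netD | 4 => netE | 5 => netF | 6 => netG
  | _ => []

set_option maxRecDepth 100000 in
theorem netsOKb : (List.range 7).all (fun x => netOKb 131072 (nets x)) = true := by decide +kernel

theorem netsOK (x : ℕ) : NetOK 131072 (nets x) := by
  by_cases hx : x < 7
  · have := netsOKb
    rw [List.all_eq_true] at this
    exact netOK_of_check (this x (List.mem_range.mpr hx))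
  · have : nets x = [] := by
      unfold nets
      split <;> first | omega | rfl
    rw [this]; intro st hst; simp at hst

end Cfsg.Agent.Lib.Helper92.ON

namespace Cfsg.Agent.Lib.Helper92.ON
open Cfsg.Agent.Lib.Helper92.VecPerm

/-- the Coxeter labels `(x, y, m(x,y))` of the path `a –3– b –3– c –8– d –3– e –3– f` -/
def coxTriples : List (ℕ × ℕ × ℕ) := [(0,0,1), (0,1,3), (0,2,2), (0,3,2), (0,4,2), (0,5,2), (1,0,3), (1,1,1), (1,2,3), (1,3,2), (1,4,2), (1,5,2), (2,0,2), (2,1,3), (2,2,1), (2,3,8), (2,4,2), (2,5,2), (3,0,2), (3,1,2), (3,2,8), (3,3,1), (3,4,3), (3,5,2), (4,0,2), (4,1,2), (4,2,2), (4,3,3), (4,4,1), (4,5,3), (5,0,2), (5,1,2), (5,2,2), (5,3,2), (5,4,3), (5,5,1)]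

/-- the word `(x y)^m` -/
def coxWord (x y m : ℕ) : List ℕ := (List.replicate m [x, y]).flatten

set_option maxRecDepth 100000 in
theorem chk_cox : coxTriples.all (fun t => eqCheck nets 17 (coxWord t.1 t.2.1 t.2.2) []) = true := by
  decide +kernel

set_option maxRecDepth 100000 in
theorem chk_r1 : eqCheck nets 17 [0,5] [6,6] = true := by decide +kernel
set_option maxRecDepth 100000 in
theorem chk_r2 : eqCheck nets 17 [0,5] [2,3,2,3,2,3,2,3] = true := by decide +kernel
set_option maxRecDepth 100000 in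
theorem chk_r3 : eqCheck nets 17 [2,3,6,3,6] [3,6,3,6,2] = true := by decide +kernel
set_option maxRecDepth 100000 in
theorem chk_r4 : eqCheck nets 17 [3,2,6,2,6] [2,6,2,6,3] = true := by decide +kernel
set_option maxRecDepth 100000 in
theorem chk_r5 : eqCheck nets 17 [1,2,3,6,1,2,3,6,1,2,3,6,1,2,3,6,1,2,3,6] [] = true := by decide +kernel
set_option maxRecDepth 100000 in
theorem chk_r6 : eqCheck nets 17 [6,1,2,6,2,1,6,1,2,6,2] [] = true := by decide +kernel
set_option maxRecDepth 100000 in
theorem chk_r7 : eqCheck nets 17 [6,4,3,6,3,4,6,4,3,6,3] [] = true := by decide +kernel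

set_option maxRecDepth 100000 in
theorem chk_fix : (List.range 6).all (fun x => Nat.beq (netV (nets x) 1) 1) = true := by decide +kernel

set_option maxRecDepth 100000 in
theorem chk_orbit : orbitCheck nets [0,1,2,3,4,5,6] 18 122760 = true := by decide +kernel

end Cfsg.Agent.Lib.Helper92.ON
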