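import Cfsg.Agent.Lib.Helper92.ON.CertTrie
import Cfsg.Agent.Lib.Helper92.TCert6

/-! Kernel evaluation of the certificate checks for the O'Nan presentation (helper92), part 0. -/

set_option autoImplicit false

namespace Cfsg.Agent.Lib.Helper92.ON
open Cfsg.Agent.Lib.Helper92.TCert

set_option maxRecDepth 1000000 in
theorem chk_0 : loopB (fun u => band (chkNode row rot 8 nR 6 u) (chkFin row 8 nC 1048575 u)) 4096 0 = true := by
  decide +kernel

set_option maxRecDepth 1000000 in
theorem chk_4096 : loopB (fun u => band (chkNode row rot 8 nR 6 u) (chkFin row 8 nC 1048575 u)) 4096 4096 = true := by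
  decide +kernel

set_option maxRecDepth 1000000 in
theorem chk_8192 : loopB (fun u => band (chkNode row rot 8 nR 6 u) (chkFin row 8 nC 1048575 u)) 4096 8192 = true := by
  decide +kernel

set_option maxRecDepth 1000000 in
theorem chk_12288 : loopB (fun u => band (chkNode row rot 8 nR 6 u) (chkFin row 8 nC 1048575 u)) 4096 12288 = true := by
  decide +kernel

end Cfsg.Agent.Lib.Helper92.ON
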