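import Cfsg.Agent.Lib.Helper92.ON.CertTrie
import Cfsg.Agent.Lib.Helper92.TCert6

/-! Kernel evaluation of the certificate checks for the O'Nan presentation (helper92), part 10. -/

set_option autoImplicit false

namespace Cfsg.Agent.Lib.Helper92.ON
open Cfsg.Agent.Lib.Helper92.TCert

set_option maxRecDepth 1000000 in
theorem chk_163720 : loopB (chkNode row rot 8 nR 6) 4096 163720 = true := by
  decide +kernel

set_option maxRecDepth 1000000 in
theorem chk_167816 : loopB (chkNode row rot 8 nR 6) 4096 167816 = true := by
  decide +kernel

set_option maxRecDepth 1000000 in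
theorem chk_171912 : loopB (chkNode row rot 8 nR 6) 4096 171912 = true := by
  decide +kernel

set_option maxRecDepth 1000000 in
theorem chk_176008 : loopB (chkNode row rot 8 nR 6) 3868 176008 = true := by
  decide +kernel

end Cfsg.Agent.Lib.Helper92.ON
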