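import Cfsg.Agent.Lib.Helper92.ON.CertChk0
import Cfsg.Agent.Lib.Helper92.ON.CertChk1
import Cfsg.Agent.Lib.Helper92.ON.CertChk2
import Cfsg.Agent.Lib.Helper92.ON.CertChk3
import Cfsg.Agent.Lib.Helper92.ON.CertChk4
import Cfsg.Agent.Lib.Helper92.ON.CertChk5
import Cfsg.Agent.Lib.Helper92.ON.CertChk6
import Cfsg.Agent.Lib.Helper92.ON.CertChk7
import Cfsg.Agent.Lib.Helper92.ON.CertChk8
import Cfsg.Agent.Lib.Helper92.ON.CertChk9
import Cfsg.Agent.Lib.Helper92.ON.CertChk10

/-! All checks of the certificate for the O'Nan presentation (helper92). -/

set_option autoImplicit false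

namespace Cfsg.Agent.Lib.Helper92.ON
open Cfsg.Agent.Lib.Helper92.TCert

theorem chk_nodes (u : ℕ) (hu : u < nN) : chkNode row rot 8 nR 6 u = true := by
  have hu' : u < 179876 := hu
  by_cases h0 : u < 4096
  · have := loopB_spec _ _ _ chk_0 u (by omega) (by omega)
    rw [band_eq, Bool.and_eq_true] at this
    exact this.1
  by_cases h4096 : u < 8192
  · have := loopB_spec _ _ _ chk_4096 u (by omega) (by omega)
    rw [band_eq, Bool.and_eq_true] at this
    exact this.1
  by_cases h8192 : u < 12288
  · have := loopB_spec _ _ _ chk_8192 u (by omega) (by omega)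
    rw [band_eq, Bool.and_eq_true] at this
    exact this.1
  by_cases h12288 : u < 16384
  · have := loopB_spec _ _ _ chk_12288 u (by omega) (by omega)
    rw [band_eq, Bool.and_eq_true] at this
    exact this.1
  by_cases h16384 : u < 20480
  · have := loopB_spec _ _ _ chk_16384 u (by omega) (by omega)
    rw [band_eq, Bool.and_eq_true] at this
    exact this.1
  by_cases h20480 : u < 24576
  · have := loopB_spec _ _ _ chk_20480 u (by omega) (by omega)
    rw [band_eq, Bool.and_eq_true] at this
    exact this.1
  by_cases h24576 : u < 28672
  · have := loopB_spec _ _ _ chk_24576 u (by omega) (by omega)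
    rw [band_eq, Bool.and_eq_true] at this
    exact this.1
  by_cases h28672 : u < 32768
  · have := loopB_spec _ _ _ chk_28672 u (by omega) (by omega)
    rw [band_eq, Bool.and_eq_true] at this
    exact this.1
  by_cases h32768 : u < 36864
  · have := loopB_spec _ _ _ chk_32768 u (by omega) (by omega)
    rw [band_eq, Bool.and_eq_true] at this
    exact this.1
  by_cases h36864 : u < 40960
  · have := loopB_spec _ _ _ chk_36864 u (by omega) (by omega)
    rw [band_eq, Bool.and_eq_true] at this
    exact this.1
  by_cases h40960 : u < 45056
  · have := loopB_spec _ _ _ chk_40960 u (by omega) (by omega)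
    rw [band_eq, Bool.and_eq_true] at this
    exact this.1
  by_cases h45056 : u < 49152
  · have := loopB_spec _ _ _ chk_45056 u (by omega) (by omega)
    rw [band_eq, Bool.and_eq_true] at this
    exact this.1
  by_cases h49152 : u < 53248
  · have := loopB_spec _ _ _ chk_49152 u (by omega) (by omega)
    rw [band_eq, Bool.and_eq_true] at this
    exact this.1
  by_cases h53248 : u < 57344
  · have := loopB_spec _ _ _ chk_53248 u (by omega) (by omega)
    rw [band_eq, Bool.and_eq_true] at this
    exact this.1
  by_cases h57344 : u < 61440
  · have := loopB_spec _ _ _ chk_57344 u (by omega) (by omega)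
    rw [band_eq, Bool.and_eq_true] at this
    exact this.1
  by_cases h61440 : u < 65536
  · have := loopB_spec _ _ _ chk_61440 u (by omega) (by omega)
    rw [band_eq, Bool.and_eq_true] at this
    exact this.1
  by_cases h65536 : u < 69632
  · have := loopB_spec _ _ _ chk_65536 u (by omega) (by omega)
    rw [band_eq, Bool.and_eq_true] at this
    exact this.1
  by_cases h69632 : u < 73728
  · have := loopB_spec _ _ _ chk_69632 u (by omega) (by omega)
    rw [band_eq, Bool.and_eq_true] at this
    exact this.1
  by_cases h73728 : u < 77824
  · have := loopB_spec _ _ _ chk_73728 u (by omega) (by omega)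
    rw [band_eq, Bool.and_eq_true] at this
    exact this.1
  by_cases h77824 : u < 81920
  · have := loopB_spec _ _ _ chk_77824 u (by omega) (by omega)
    rw [band_eq, Bool.and_eq_true] at this
    exact this.1
  by_cases h81920 : u < 86016
  · have := loopB_spec _ _ _ chk_81920 u (by omega) (by omega)
    rw [band_eq, Bool.and_eq_true] at this
    exact this.1
  by_cases h86016 : u < 90112
  · have := loopB_spec _ _ _ chk_86016 u (by omega) (by omega)
    rw [band_eq, Bool.and_eq_true] at this
    exact this.1
  by_cases h90112 : u < 94208
  · have := loopB_spec _ _ _ chk_90112 u (by omega) (by omega)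
    rw [band_eq, Bool.and_eq_true] at this
    exact this.1
  by_cases h94208 : u < 98304
  · have := loopB_spec _ _ _ chk_94208 u (by omega) (by omega)
    rw [band_eq, Bool.and_eq_true] at this
    exact this.1
  by_cases h98304 : u < 102400
  · have := loopB_spec _ _ _ chk_98304 u (by omega) (by omega)
    rw [band_eq, Bool.and_eq_true] at this
    exact this.1
  by_cases h102400 : u < 106496
  · have := loopB_spec _ _ _ chk_102400 u (by omega) (by omega)
    rw [band_eq, Bool.and_eq_true] at this
    exact this.1
  by_cases h106496 : u < 110592
  · have := loopB_spec _ _ _ chk_106496 u (by omega) (by omega)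
    rw [band_eq, Bool.and_eq_true] at this
    exact this.1
  by_cases h110592 : u < 114688
  · have := loopB_spec _ _ _ chk_110592 u (by omega) (by omega)
    rw [band_eq, Bool.and_eq_true] at this
    exact this.1
  by_cases h114688 : u < 118784
  · have := loopB_spec _ _ _ chk_114688 u (by omega) (by omega)
    rw [band_eq, Bool.and_eq_true] at this
    exact this.1
  by_cases h118784 : u < 122760
  · have := loopB_spec _ _ _ chk_118784 u (by omega) (by omega)
    rw [band_eq, Bool.and_eq_true] at this
    exact this.1
  by_cases h122760 : u < 126856
  · exact loopB_spec _ _ _ chk_122760 u (by omega) (by omega)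
  by_cases h126856 : u < 130952
  · exact loopB_spec _ _ _ chk_126856 u (by omega) (by omega)
  by_cases h130952 : u < 135048
  · exact loopB_spec _ _ _ chk_130952 u (by omega) (by omega)
  by_cases h135048 : u < 139144
  · exact loopB_spec _ _ _ chk_135048 u (by omega) (by omega)
  by_cases h139144 : u < 143240
  · exact loopB_spec _ _ _ chk_139144 u (by omega) (by omega)
  by_cases h143240 : u < 147336
  · exact loopB_spec _ _ _ chk_143240 u (by omega) (by omega)
  by_cases h147336 : u < 151432
  · exact loopB_spec _ _ _ chk_147336 u (by omega) (by omega)
  by_cases h151432 : u < 155528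
  · exact loopB_spec _ _ _ chk_151432 u (by omega) (by omega)
  by_cases h155528 : u < 159624
  · exact loopB_spec _ _ _ chk_155528 u (by omega) (by omega)
  by_cases h159624 : u < 163720
  · exact loopB_spec _ _ _ chk_159624 u (by omega) (by omega)
  by_cases h163720 : u < 167816
  · exact loopB_spec _ _ _ chk_163720 u (by omega) (by omega)
  by_cases h167816 : u < 171912
  · exact loopB_spec _ _ _ chk_167816 u (by omega) (by omega)
  by_cases h171912 : u < 176008
  · exact loopB_spec _ _ _ chk_171912 u (by omega) (by omega)
  by_cases h176008 : u < 179876
  · exact loopB_spec _ _ _ chk_176008 u (by omega) (by omega)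
  omega

theorem chk_fin (c : ℕ) (hc : c < nC) : chkFin row 8 nC 1048575 c = true := by
  have hc' : c < 122760 := hc
  by_cases h0 : c < 4096
  · have := loopB_spec _ _ _ chk_0 c (by omega) (by omega)
    rw [band_eq, Bool.and_eq_true] at this
    exact this.2
  by_cases h4096 : c < 8192
  · have := loopB_spec _ _ _ chk_4096 c (by omega) (by omega)
    rw [band_eq, Bool.and_eq_true] at this
    exact this.2
  by_cases h8192 : c < 12288
  · have := loopB_spec _ _ _ chk_8192 c (by omega) (by omega)
    rw [band_eq, Bool.and_eq_true] at this
    exact this.2
  by_cases h12288 : c < 16384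
  · have := loopB_spec _ _ _ chk_12288 c (by omega) (by omega)
    rw [band_eq, Bool.and_eq_true] at this
    exact this.2
  by_cases h16384 : c < 20480
  · have := loopB_spec _ _ _ chk_16384 c (by omega) (by omega)
    rw [band_eq, Bool.and_eq_true] at this
    exact this.2
  by_cases h20480 : c < 24576
  · have := loopB_spec _ _ _ chk_20480 c (by omega) (by omega)
    rw [band_eq, Bool.and_eq_true] at this
    exact this.2
  by_cases h24576 : c < 28672
  · have := loopB_spec _ _ _ chk_24576 c (by omega) (by omega)
    rw [band_eq, Bool.and_eq_true] at this
    exact this.2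
  by_cases h28672 : c < 32768
  · have := loopB_spec _ _ _ chk_28672 c (by omega) (by omega)
    rw [band_eq, Bool.and_eq_true] at this
    exact this.2
  by_cases h32768 : c < 36864
  · have := loopB_spec _ _ _ chk_32768 c (by omega) (by omega)
    rw [band_eq, Bool.and_eq_true] at this
    exact this.2
  by_cases h36864 : c < 40960
  · have := loopB_spec _ _ _ chk_36864 c (by omega) (by omega)
    rw [band_eq, Bool.and_eq_true] at this
    exact this.2
  by_cases h40960 : c < 45056
  · have := loopB_spec _ _ _ chk_40960 c (by omega) (by omega)
    rw [band_eq, Bool.and_eq_true] at this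
    exact this.2
  by_cases h45056 : c < 49152
  · have := loopB_spec _ _ _ chk_45056 c (by omega) (by omega)
    rw [band_eq, Bool.and_eq_true] at this
    exact this.2
  by_cases h49152 : c < 53248
  · have := loopB_spec _ _ _ chk_49152 c (by omega) (by omega)
    rw [band_eq, Bool.and_eq_true] at this
    exact this.2
  by_cases h53248 : c < 57344
  · have := loopB_spec _ _ _ chk_53248 c (by omega) (by omega)
    rw [band_eq, Bool.and_eq_true] at this
    exact this.2
  by_cases h57344 : c < 61440
  · have := loopB_spec _ _ _ chk_57344 c (by omega) (by omega)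
    rw [band_eq, Bool.and_eq_true] at this
    exact this.2
  by_cases h61440 : c < 65536
  · have := loopB_spec _ _ _ chk_61440 c (by omega) (by omega)
    rw [band_eq, Bool.and_eq_true] at this
    exact this.2
  by_cases h65536 : c < 69632
  · have := loopB_spec _ _ _ chk_65536 c (by omega) (by omega)
    rw [band_eq, Bool.and_eq_true] at this
    exact this.2
  by_cases h69632 : c < 73728
  · have := loopB_spec _ _ _ chk_69632 c (by omega) (by omega)
    rw [band_eq, Bool.and_eq_true] at this
    exact this.2
  by_cases h73728 : c < 77824
  · have := loopB_spec _ _ _ chk_73728 c (by omega) (by omega)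
    rw [band_eq, Bool.and_eq_true] at this
    exact this.2
  by_cases h77824 : c < 81920
  · have := loopB_spec _ _ _ chk_77824 c (by omega) (by omega)
    rw [band_eq, Bool.and_eq_true] at this
    exact this.2
  by_cases h81920 : c < 86016
  · have := loopB_spec _ _ _ chk_81920 c (by omega) (by omega)
    rw [band_eq, Bool.and_eq_true] at this
    exact this.2
  by_cases h86016 : c < 90112
  · have := loopB_spec _ _ _ chk_86016 c (by omega) (by omega)
    rw [band_eq, Bool.and_eq_true] at this
    exact this.2
  by_cases h90112 : c < 94208
  · have := loopB_spec _ _ _ chk_90112 c (by omega) (by omega)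
    rw [band_eq, Bool.and_eq_true] at this
    exact this.2
  by_cases h94208 : c < 98304
  · have := loopB_spec _ _ _ chk_94208 c (by omega) (by omega)
    rw [band_eq, Bool.and_eq_true] at this
    exact this.2
  by_cases h98304 : c < 102400
  · have := loopB_spec _ _ _ chk_98304 c (by omega) (by omega)
    rw [band_eq, Bool.and_eq_true] at this
    exact this.2
  by_cases h102400 : c < 106496
  · have := loopB_spec _ _ _ chk_102400 c (by omega) (by omega)
    rw [band_eq, Bool.and_eq_true] at this
    exact this.2
  by_cases h106496 : c < 110592
  · have := loopB_spec _ _ _ chk_106496 c (by omega) (by omega)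
    rw [band_eq, Bool.and_eq_true] at this
    exact this.2
  by_cases h110592 : c < 114688
  · have := loopB_spec _ _ _ chk_110592 c (by omega) (by omega)
    rw [band_eq, Bool.and_eq_true] at this
    exact this.2
  by_cases h114688 : c < 118784
  · have := loopB_spec _ _ _ chk_114688 c (by omega) (by omega)
    rw [band_eq, Bool.and_eq_true] at this
    exact this.2
  by_cases h118784 : c < 122760
  · have := loopB_spec _ _ _ chk_118784 c (by omega) (by omega)
    rw [band_eq, Bool.and_eq_true] at this
    exact this.2
  omega

end Cfsg.Agent.Lib.Helper92.ON
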