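import Cfsg.Agent.Lib.Helper92.ON.CertD0
import Cfsg.Agent.Lib.Helper92.ON.CertD1
import Cfsg.Agent.Lib.Helper92.ON.CertD2
import Cfsg.Agent.Lib.Helper92.ON.CertD3
import Cfsg.Agent.Lib.Helper92.ON.CertD4
import Cfsg.Agent.Lib.Helper92.ON.CertD5
import Cfsg.Agent.Lib.Helper92.ON.CertD6
import Cfsg.Agent.Lib.Helper92.ON.CertD7
import Cfsg.Agent.Lib.Helper92.ON.CertD8
import Cfsg.Agent.Lib.Helper92.ON.CertD9
import Cfsg.Agent.Lib.Helper92.ON.CertD10
import Cfsg.Agent.Lib.Helper92.ON.CertD11
import Cfsg.Agent.Lib.Helper92.ON.CertD12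
import Cfsg.Agent.Lib.Helper92.ON.CertD13
import Cfsg.Agent.Lib.Helper92.ON.CertD14
import Cfsg.Agent.Lib.Helper92.ON.CertD15

/-! The certificate for the O'Nan presentation: trie of rows, rotation table (helper92). -/

set_option autoImplicit false

namespace Cfsg.Agent.Lib.Helper92.ON
open Cfsg.Agent.Lib.Helper92.TCert

/-- all rows -/
noncomputable def trie : T16 :=
  .node sub0 sub1 sub2 sub3 sub4 sub5 sub6 sub7 sub8 sub9 sub10 sub11 sub12 sub13 sub14 sub15

/-- the rotations of the relators: first letter, number of further letters, further letters -/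
noncomputable def rotT : T16 :=
  .node (.node (.leaf 133161) (.leaf 8220) (.leaf 24860) (.leaf 2716456918096507) (.leaf 3728172) (.leaf 12063) (.leaf 16303182670) (.leaf 12510344015) (.leaf 17388139712947220890) (.leaf 46319972950) (.leaf 0) (.leaf 0) (.leaf 0) (.leaf 0) (.leaf 0) (.leaf 0))
    (.node (.leaf 1065256) (.leaf 66584) (.leaf 68633) (.leaf 3717256835289978) (.leaf 4660267) (.leaf 115999) (.leaf 27807701579) (.leaf 31628564043) (.leaf 11396889500973178521) (.leaf 225381785171) (.leaf 0) (.leaf 0) (.leaf 0) (.leaf 0) (.leaf 0) (.leaf 0))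
    (.node (.leaf 133161) (.leaf 10269) (.leaf 24860) (.leaf 2716456918096507) (.leaf 3728172) (.leaf 129053) (.leaf 16360864586) (.leaf 6036297206049035166) (.leaf 6036297206049035166) (.leaf 131251938134) (.leaf 0) (.leaf 0) (.leaf 0) (.leaf 0) (.leaf 0) (.leaf 0))
    (.node (.leaf 1065256) (.leaf 83224) (.leaf 68633) (.leaf 3717256835289978) (.leaf 4660267) (.leaf 98072) (.leaf 10635042635) (.leaf 28424653261320456859) (.leaf 28424653261320456859) (.leaf 222564922451) (.leaf 0) (.leaf 0) (.leaf 0) (.leaf 0) (.leaf 0) (.leaf 0))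
    (.node (.leaf 133161) (.leaf 10269) (.leaf 26909) (.leaf 2716456918096507) (.leaf 3728172) (.leaf 2905920330) (.leaf 14214282063) (.leaf 17388139712947220890) (.leaf 17388139712947220890) (.leaf 130899830356) (.leaf 0) (.leaf 0) (.leaf 0) (.leaf 0) (.leaf 0) (.leaf 0))
    (.node (.leaf 1065256) (.leaf 83224) (.leaf 85273) (.leaf 3717256835289978) (.leaf 4660267) (.leaf 8953174603) (.leaf 31841556299) (.leaf 11396889500973178521) (.leaf 11396889500973178521) (.leaf 153801432150) (.leaf 0) (.leaf 0) (.leaf 0) (.leaf 0) (.leaf 0) (.leaf 0))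
    (.node (.leaf 4122) (.leaf 1331498) (.leaf 26909) (.leaf 2716456918096507) (.leaf 60189) (.leaf 14004048714) (.leaf 16865096271) (.leaf 6036297206049035166) (.leaf 211948426834) (.leaf 225383609172) (.leaf 0) (.leaf 0) (.leaf 0) (.leaf 0) (.leaf 0) (.leaf 0))
    (.node (.leaf 33304) (.leaf 2263593) (.leaf 85273) (.leaf 3717256835289978) (.leaf 89371) (.leaf 10340440651) (.leaf 32172908106) (.leaf 28424653261320456859) (.leaf 95213029974) (.leaf 165611904595) (.leaf 0) (.leaf 0) (.leaf 0) (.leaf 0) (.leaf 0) (.leaf 0))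
    (.node (.leaf 4122) (.leaf 1331498) (.leaf 2716456918096507) (.leaf 41500) (.leaf 60189) (.leaf 14177456970) (.leaf 16838472270) (.leaf 17388139712947220890) (.leaf 218060058962) (.leaf 123780703062) (.leaf 0) (.leaf 0) (.leaf 0) (.leaf 0) (.leaf 0) (.leaf 0))
    (.node (.leaf 33304) (.leaf 2263593) (.leaf 3717256835289978) (.leaf 70682) (.leaf 89371) (.leaf 10362116683) (.leaf 27874612810) (.leaf 11396889500973178521) (.leaf 95976984145) (.leaf 221631018067) (.leaf 0) (.leaf 0) (.leaf 0) (.leaf 0) (.leaf 0) (.leaf 0))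
    (.node (.leaf 6171) (.leaf 1331498) (.leaf 2716456918096507) (.leaf 41500) (.leaf 4926509) (.leaf 14180166474) (.leaf 12074261070) (.leaf 6036297206049035166) (.leaf 46356861270) (.leaf 130783092308) (.leaf 0) (.leaf 0) (.leaf 0) (.leaf 0) (.leaf 0) (.leaf 0))
    (.node (.leaf 49944) (.leaf 2263593) (.leaf 3717256835289978) (.leaf 70682) (.leaf 5858604) (.leaf 10362455371) (.leaf 27279086410) (.leaf 28424653261320456859) (.leaf 211953037905) (.leaf 153786839894) (.leaf 0) (.leaf 0) (.leaf 0) (.leaf 0) (.leaf 0) (.leaf 0))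
    (.node (.leaf 6171) (.leaf 22811) (.leaf 2716456918096507) (.leaf 43549) (.leaf 4926509) (.leaf 14180208717) (.leaf 11999820363) (.leaf 17388139712947220890) (.leaf 60853868114) (.leaf 0) (.leaf 0) (.leaf 0) (.leaf 0) (.leaf 0) (.leaf 0) (.leaf 0))
    (.node (.leaf 49944) (.leaf 51993) (.leaf 3717256835289978) (.leaf 87322) (.leaf 5858604) (.leaf 23247362632) (.leaf 14384879434) (.leaf 11396889500973178521) (.leaf 76326210134) (.leaf 0) (.leaf 0) (.leaf 0) (.leaf 0) (.leaf 0) (.leaf 0) (.leaf 0))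
    (.node (.leaf 8220) (.leaf 22811) (.leaf 2716456918096507) (.leaf 43549) (.leaf 4926509) (.leaf 12611547982) (.leaf 10388044367) (.leaf 6036297206049035166) (.leaf 215699206482) (.leaf 0) (.leaf 0) (.leaf 0) (.leaf 0) (.leaf 0) (.leaf 0) (.leaf 0))
    (.node (.leaf 66584) (.leaf 51993) (.leaf 3717256835289978) (.leaf 87322) (.leaf 5858604) (.leaf 27346247243) (.leaf 31363276618) (.leaf 28424653261320456859) (.leaf 95681877585) (.leaf 0) (.leaf 0) (.leaf 0) (.leaf 0) (.leaf 0) (.leaf 0) (.leaf 0))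

/-- number of nodes -/
def nN : ℕ := 179876
/-- number of cosets -/
def nC : ℕ := 122760
/-- number of rotations -/
def nR : ℕ := 156

/-- the row of a node -/
noncomputable def row (u : ℕ) : ℕ := rowOf trie nN u
/-- the rotation code -/
noncomputable def rot (i : ℕ) : ℕ := rotT.get i

end Cfsg.Agent.Lib.Helper92.ON
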