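import Cfsg.Agent.Lib.Helper92.ON.Order
import Cfsg.Agent.Lib.Helper92.ON.L37Data
import Cfsg.Agent.Lib.Helper92.BlockAct
import Cfsg.Agent.Lib.Helper92.SimpleAux2

/-!
# An index-2 subgroup of `⟨a, …, f⟩ ≤ O'N` acting faithfully on 57 blocks (helper92)
-/

set_option autoImplicit false

namespace Cfsg.Agent.Lib.Helper92.ON.L37
open Cfsg.Agent.Lib.Helper92.VecPerm
open Cfsg.Agent.Lib.Helper92.BlockAct
open Cfsg.Agent.Lib.Helper92.SimpleAux
open Cfsg.Agent.Lib.Helper92.ON
open Cfsg.Spor Cfsg.Spor.ON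
open Pointwise

/-- table lookup -/
def nth : List ℕ → ℕ → ℕ
  | [], _ => 0
  | a :: _, 0 => a
  | _ :: l, n + 1 => nth l n

/-- table lookup -/
def nthL : List (List ℕ) → ℕ → List ℕ
  | [], _ => []
  | a :: _, 0 => a
  | _ :: l, n + 1 => nthL l n

/-- the permutation of the blocks induced by `a x` -/
def Pt (x j : ℕ) : ℕ := nth (nthL PtL x) j
/-- its inverse -/
def Pi (x j : ℕ) : ℕ := nth (nthL PiL x) j

/-- the mask of a list of points -/
noncomputable def maskOf (l : List ℕ) : ℕ :=
  @List.rec ℕ (fun _ => ℕ) 0 (fun p _ ih => Nat.lor (Nat.pow 2 p) ih) l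

/-- the mask of a block -/
noncomputable def mask (j : ℕ) : ℕ := maskOf (nthL blkPts j)

/-- a point of a block -/
def wit (j : ℕ) : ℕ := nth (nthL blkPts j) 0

set_option maxRecDepth 100000 in
theorem chk_blocks : (List.range 6).all (fun x => (List.range 57).all (fun j =>
    Nat.beq (wordV nets [x, 0] (mask j)) (mask (Pt x j)) &&
    (Nat.beq (wordV nets [0, x] (mask j)) (mask (Pi x j)) &&
    (Nat.blt (Pt x j) 57 && Nat.blt (Pi x j) 57)))) = true := by decide +kernel

set_option maxRecDepth 100000 in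
theorem chk_wit : (List.range 57).all (fun i => (List.range 57).all (fun j =>
    ((mask i).testBit (wit j) == Nat.beq i j)) && Nat.blt (wit i) 122760) = true := by decide +kernel

set_option maxRecDepth 100000 in
theorem chk_notin : ((wordV nets [0] (mask 0)).testBit wit1 && ((wordV nets [0] (mask 0)).testBit wit2 &&
    ((List.range 57).all (fun k => !((mask k).testBit wit1 && (mask k).testBit wit2)) &&
    (Nat.blt wit1 122760 && Nat.blt wit2 122760)))) = true := by decide +kernel

/-- the blocks as sets, indexed by numbers -/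
def Bn (j : ℕ) : Set (Fin 122760) := {i | (mask j).testBit i.val = true}

/-- the 57 blocks -/
def B (j : Fin 57) : Set (Fin 122760) := Bn j.val

theorem mem_Bn (j : ℕ) (i : Fin 122760) : i ∈ Bn j ↔ (mask j).testBit i.val = true := Iff.rfl

theorem B_injective : Function.Injective B := by
  intro i j hij
  have h := chk_wit
  rw [List.all_eq_true] at h
  have hj := h j.val (List.mem_range.mpr j.isLt)
  rw [Bool.and_eq_true, List.all_eq_true] at hj
  have hwlt : wit j.val < 122760 := by
    have := hj.2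
    simpa [Nat.blt] using this
  have hjj := hj.1 j.val (List.mem_range.mpr j.isLt)
  have hmem : (⟨wit j.val, hwlt⟩ : Fin 122760) ∈ B j := by
    show (mask j.val).testBit (wit j.val) = true
    have e : Nat.beq j.val j.val = true := by simp
    rw [e] at hjj
    simpa using hjj
  rw [← hij] at hmem
  have hmem' : (mask i.val).testBit (wit j.val) = true := hmem
  have hi := h i.val (List.mem_range.mpr i.isLt)
  rw [Bool.and_eq_true, List.all_eq_true] at hi
  have hij2 := hi.1 j.val (List.mem_range.mpr j.isLt)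
  rw [hmem'] at hij2
  have : Nat.beq i.val j.val = true := by simpa using hij2.symm
  exact Fin.ext (Nat.eq_of_beq_eq_true this)

/-- value of a word of letters in the group -/
noncomputable def evW (w : List ℕ) : OG := (w.map lv).prod

theorem phi_evW (w : List ℕ) (hw : ∀ x ∈ w, x < 7) : phi (evW w) = wordPerm netsOK w := by
  induction w with
  | nil => simp [evW, wordPerm]
  | cons x w ih =>
    have h1 : evW (x :: w) = lv x * evW w := by simp [evW]
    have h2 : wordPerm netsOK (x :: w) = gp x * wordPerm netsOK w := by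
      simp [wordPerm, gp]
    rw [h1, h2, map_mul, phi_lv x (hw x List.mem_cons_self),
      ih (fun y hy => hw y (List.mem_cons_of_mem _ hy))]

/-- a mask computation gives the image of a block -/
theorem smul_Bn_of_check (w : List ℕ) (hw : ∀ x ∈ w, x < 7) (j k : ℕ)
    (h : Nat.beq (wordV nets w (mask j)) (mask k) = true) : (evW w)⁻¹ • Bn j = Bn k := by
  ext i
  rw [Set.mem_inv_smul_set_iff, mem_Bn, mem_Bn, smul_val, phi_evW w hw, wordPerm_apply,
    ← wordV_testBit netsOK, Nat.eq_of_beq_eq_true h]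

theorem lv_inv (x : ℕ) (hx : x < 6) : (lv x)⁻¹ = lv x := by
  interval_cases x
  · exact og_inv _ nodeA
  · exact og_inv _ nodeB
  · exact og_inv _ nodeC
  · exact og_inv _ nodeD
  · exact og_inv _ nodeE
  · exact og_inv _ nodeF

/-- the generators `a x` of the subgroup -/
noncomputable def gx (x : ℕ) : OG := lv 0 * lv x

theorem chk_at (x j : ℕ) (hx : x < 6) (hj : j < 57) :
    Nat.beq (wordV nets [x, 0] (mask j)) (mask (Pt x j)) = true ∧
    Nat.beq (wordV nets [0, x] (mask j)) (mask (Pi x j)) = true ∧ Pt x j < 57 ∧ Pi x j < 57 := by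
  have h := chk_blocks
  rw [List.all_eq_true] at h
  have h1 := h x (List.mem_range.mpr hx)
  rw [List.all_eq_true] at h1
  have h2 := h1 j (List.mem_range.mpr hj)
  simp only [Bool.and_eq_true] at h2
  obtain ⟨a1, a2, a3, a4⟩ := h2
  refine ⟨a1, a2, ?_, ?_⟩
  · simpa [Nat.blt] using a3
  · simpa [Nat.blt] using a4

theorem gx_smul (x j : ℕ) (hx : x < 6) (hj : j < 57) : gx x • Bn j = Bn (Pt x j) := by
  have h := (chk_at x j hx hj).1
  have hw : ∀ y ∈ [x, 0], y < 7 := by
    intro y hy
    simp only [List.mem_cons, List.not_mem_nil, or_false] at hy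
    omega
  have e := smul_Bn_of_check [x, 0] hw j (Pt x j) h
  have e2 : (evW [x, 0])⁻¹ = gx x := by
    simp only [evW, gx, List.map_cons, List.map_nil, List.prod_cons, List.prod_nil, mul_one, mul_inv_rev]
    rw [lv_inv 0 (by norm_num), lv_inv x hx]
  rw [e2] at e
  exact e

theorem gx_inv_smul (x j : ℕ) (hx : x < 6) (hj : j < 57) : (gx x)⁻¹ • Bn j = Bn (Pi x j) := by
  have h := (chk_at x j hx hj).2.1
  have hw : ∀ y ∈ [0, x], y < 7 := by
    intro y hy
    simp only [List.mem_cons, List.not_mem_nil, or_false] at hy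
    omega
  have e := smul_Bn_of_check [0, x] hw j (Pi x j) h
  have e2 : evW [0, x] = gx x := by
    simp only [evW, gx, List.map_cons, List.map_nil, List.prod_cons, List.prod_nil, mul_one]
  rw [e2] at e
  exact e

/-- the subgroup generated by the products `a x` -/
noncomputable def N0 : Subgroup OG := Subgroup.closure {g | ∃ x, x < 6 ∧ g = gx x}

theorem gx_mem (x : ℕ) (hx : x < 6) : gx x ∈ N0 := Subgroup.subset_closure ⟨x, hx, rfl⟩

theorem N0_le_onH : N0 ≤ onH := by
  unfold N0
  rw [Subgroup.closure_le]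
  rintro _ ⟨x, hx, rfl⟩
  exact onH.mul_mem (lv_sub 0 (by norm_num)) (lv_sub x hx)

theorem N0_le_stab : N0 ≤ blockStab OG B := by
  unfold N0
  rw [Subgroup.closure_le]
  rintro _ ⟨x, hx, rfl⟩
  refine ⟨fun j => ?_, fun j => ?_⟩
  · exact ⟨⟨Pt x j.val, (chk_at x j.val hx j.isLt).2.2.1⟩, gx_smul x j.val hx j.isLt⟩
  · exact ⟨⟨Pi x j.val, (chk_at x j.val hx j.isLt).2.2.2⟩, gx_inv_smul x j.val hx j.isLt⟩

/-- `a` does not permute the blocks -/
theorem lv0_not_mem : lv 0 ∉ blockStab OG B := by
  intro hmem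
  obtain ⟨k, hk⟩ := hmem.2 0
  have h := chk_notin
  simp only [Bool.and_eq_true] at h
  obtain ⟨a1, a2, a3, a4, a5⟩ := h
  have h1 : wit1 < 122760 := by simpa [Nat.blt] using a4
  have h2 : wit2 < 122760 := by simpa [Nat.blt] using a5
  have hw : ∀ y ∈ [0], y < 7 := by
    intro y hy
    simp only [List.mem_cons, List.not_mem_nil, or_false] at hy
    omega
  have e0 : evW [0] = lv 0 := by simp [evW]
  -- membership of the two witnesses in `(lv 0)⁻¹ • B 0`
  have m1 : (⟨wit1, h1⟩ : Fin 122760) ∈ (lv 0)⁻¹ • B 0 := by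
    rw [Set.mem_inv_smul_set_iff]
    show (mask 0).testBit ((lv 0 • (⟨wit1, h1⟩ : Fin 122760)).val) = true
    rw [smul_val, ← e0, phi_evW [0] hw, wordPerm_apply, ← wordV_testBit netsOK]
    exact a1
  have m2 : (⟨wit2, h2⟩ : Fin 122760) ∈ (lv 0)⁻¹ • B 0 := by
    rw [Set.mem_inv_smul_set_iff]
    show (mask 0).testBit ((lv 0 • (⟨wit2, h2⟩ : Fin 122760)).val) = true
    rw [smul_val, ← e0, phi_evW [0] hw, wordPerm_apply, ← wordV_testBit netsOK]
    exact a2
  rw [hk] at m1 m2
  have m1' : (mask k.val).testBit wit1 = true := m1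
  have m2' : (mask k.val).testBit wit2 = true := m2
  rw [List.all_eq_true] at a3
  have := a3 k.val (List.mem_range.mpr k.isLt)
  rw [m1', m2'] at this
  simp at this

/-- the action on the blocks -/
noncomputable def theta : N0 →* Equiv.Perm (Fin 57) :=
  (blockHom OG B B_injective).comp (Subgroup.inclusion N0_le_stab)

theorem theta_apply (g : N0) (j k : Fin 57) (h : (g : OG) • B j = B k) : theta g j = k :=
  blockHom_apply OG B B_injective (Subgroup.inclusion N0_le_stab g) j k h

/-- the action as a `MulAction` -/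
noncomputable instance actN0 : MulAction N0 (Fin 57) := MulAction.compHom _ theta

theorem smul57 (g : N0) (j : Fin 57) : g • j = theta g j := rfl

/-- `g` maps the blocks as the function `f` says -/
def ActsN (g : OG) (f : ℕ → ℕ) : Prop := ∀ j < 57, f j < 57 ∧ g • Bn j = Bn (f j)

theorem actsN_one : ActsN 1 (fun j => j) := fun _ hj => ⟨hj, one_smul _ _⟩

theorem actsN_mul {g h : OG} {f f' : ℕ → ℕ} (hg : ActsN g f) (hh : ActsN h f') :
    ActsN (g * h) (fun j => f (f' j)) := by
  intro j hj
  obtain ⟨h1, h2⟩ := hh j hj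
  obtain ⟨h3, h4⟩ := hg (f' j) h1
  exact ⟨h3, by rw [mul_smul, h2, h4]⟩

theorem actsN_gx (x : ℕ) (hx : x < 6) : ActsN (gx x) (Pt x) :=
  fun j hj => ⟨(chk_at x j hx hj).2.2.1, gx_smul x j hx hj⟩

theorem actsN_gx_inv (x : ℕ) (hx : x < 6) : ActsN (gx x)⁻¹ (Pi x) :=
  fun j hj => ⟨(chk_at x j hx hj).2.2.2, gx_inv_smul x j hx hj⟩

theorem pair_eq (x y : ℕ) (hx : x < 6) : lv x * lv y = (gx x)⁻¹ * gx y := by
  unfold gx
  rw [mul_inv_rev, lv_inv x hx]
  group

/-- the action of an even word on the blocks -/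
def wordAct : List ℕ → ℕ → ℕ
  | x :: y :: w, j => Pi x (Pt y (wordAct w j))
  | [_], j => j
  | [], j => j

/-- even length, letters below 6 -/
def evenOK : List ℕ → Bool
  | x :: y :: w => Nat.blt x 6 && (Nat.blt y 6 && evenOK w)
  | [_] => false
  | [] => true

theorem acts_word : ∀ (u : List ℕ), evenOK u = true → evW u ∈ N0 ∧ ActsN (evW u) (wordAct u)
  | [], _ => by
    have e : evW [] = 1 := by simp [evW]
    rw [e]
    exact ⟨N0.one_mem, actsN_one⟩
  | [_], h => by simp [evenOK] at h
  | x :: y :: w, h => by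
    simp only [evenOK, Bool.and_eq_true] at h
    obtain ⟨hx, hy, hw⟩ := h
    have hx6 : x < 6 := by simpa [Nat.blt] using hx
    have hy6 : y < 6 := by simpa [Nat.blt] using hy
    obtain ⟨ih1, ih2⟩ := acts_word w hw
    have e : evW (x :: y :: w) = ((gx x)⁻¹ * gx y) * evW w := by
      rw [← pair_eq x y hx6]
      simp [evW, mul_assoc]
    rw [e]
    refine ⟨N0.mul_mem (N0.mul_mem (N0.inv_mem (gx_mem x hx6)) (gx_mem y hy6)) ih1, ?_⟩
    have key : ActsN ((gx x)⁻¹ * gx y * evW w) (fun j => Pi x (Pt y (wordAct w j))) :=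
      actsN_mul (f := fun j => Pi x (Pt y j)) (f' := wordAct w)
        (actsN_mul (f := Pi x) (f' := Pt y) (actsN_gx_inv x hx6) (actsN_gx y hy6)) ih2
    intro j hj
    exact key j hj

theorem smul_of_acts (g : N0) (f : ℕ → ℕ) (h : ActsN (g : OG) f) (j : Fin 57) :
    (g • j).val = f j.val := by
  obtain ⟨h1, h2⟩ := h j.val j.isLt
  have := theta_apply g j ⟨f j.val, h1⟩ h2
  rw [smul57, this]

/-- the element of `N0` of an even word -/
noncomputable def wordEl (u : List ℕ) (h : evenOK u = true) : N0 := ⟨evW u, (acts_word u h).1⟩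

theorem wordEl_smul (u : List ℕ) (h : evenOK u = true) (j : Fin 57) :
    (wordEl u h • j).val = wordAct u j.val :=
  smul_of_acts (wordEl u h) (wordAct u) (acts_word u h).2 j

end Cfsg.Agent.Lib.Helper92.ON.L37
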