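import Mathlib

/-!
# The order of `PSL(3, 7)` (helper92)
-/

set_option autoImplicit false

namespace Cfsg.Agent.Lib.Helper92.ON.L37

open Matrix

/-- 7 is prime -/
instance fact7 : Fact (Nat.Prime 7) := ⟨by norm_num⟩

theorem card_GL37 : Nat.card (GL (Fin 3) (ZMod 7)) = 33784128 := by
  rw [Matrix.card_GL_field (𝔽 := ZMod 7) 3]
  simp [ZMod.card, Fin.prod_univ_succ]

theorem ker_det_eq_range :
    (Matrix.GeneralLinearGroup.det : GL (Fin 3) (ZMod 7) →* (ZMod 7)ˣ).ker =
      (Matrix.SpecialLinearGroup.toGL : SpecialLinearGroup (Fin 3) (ZMod 7) →* GL (Fin 3) (ZMod 7)).range := by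
  ext g
  rw [MonoidHom.mem_ker, MonoidHom.mem_range]
  constructor
  · intro h
    have hd : (g : Matrix (Fin 3) (Fin 3) (ZMod 7)).det = 1 := by
      have := congrArg Units.val h
      simpa using this
    refine ⟨⟨(g : Matrix (Fin 3) (Fin 3) (ZMod 7)), hd⟩, ?_⟩
    ext i j
    rfl
  · rintro ⟨A, rfl⟩
    ext
    simp

theorem card_SL37 : Nat.card (SpecialLinearGroup (Fin 3) (ZMod 7)) = 5630688 := by
  have h1 := Subgroup.card_eq_card_quotient_mul_card_subgroup
    (Matrix.GeneralLinearGroup.det : GL (Fin 3) (ZMod 7) →* (ZMod 7)ˣ).ker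
  have h2 : Nat.card (GL (Fin 3) (ZMod 7) ⧸
      (Matrix.GeneralLinearGroup.det : GL (Fin 3) (ZMod 7) →* (ZMod 7)ˣ).ker) = 6 := by
    rw [Nat.card_congr (QuotientGroup.quotientKerEquivOfSurjective _
      (Matrix.GeneralLinearGroup.det_surjective (n := Fin 3) (R := ZMod 7))).toEquiv]
    rw [Nat.card_eq_fintype_card, ZMod.card_units_eq_totient]
    decide
  have h3 : Nat.card (Matrix.GeneralLinearGroup.det : GL (Fin 3) (ZMod 7) →* (ZMod 7)ˣ).ker =
      Nat.card (SpecialLinearGroup (Fin 3) (ZMod 7)) := by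
    rw [ker_det_eq_range]
    exact (Nat.card_congr (MonoidHom.ofInjective
      (Matrix.SpecialLinearGroup.toGL_injective (n := Fin 3) (R := ZMod 7))).toEquiv).symm
  rw [card_GL37, h2, h3] at h1
  omega

theorem card_center : Nat.card (Subgroup.center (SpecialLinearGroup (Fin 3) (ZMod 7))) = 3 := by
  rw [Nat.card_congr (Matrix.SpecialLinearGroup.center_equiv_rootsOfUnity (n := Fin 3) (R := ZMod 7)).toEquiv]
  have hp : IsPrimitiveRoot (2 : ZMod 7) 3 := by
    refine IsPrimitiveRoot.mk_of_lt _ (by norm_num) (by decide) ?_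
    intro l hl0 hl3
    interval_cases l <;> decide
  have : max (Fintype.card (Fin 3)) 1 = 3 := by simp
  rw [this]
  exact hp.card_rootsOfUnity

theorem card_PSL37 : Nat.card (ProjectiveSpecialLinearGroup (Fin 3) (ZMod 7)) = 1876896 := by
  have h1 := Subgroup.card_eq_card_quotient_mul_card_subgroup
    (Subgroup.center (SpecialLinearGroup (Fin 3) (ZMod 7)))
  rw [card_SL37, card_center] at h1
  have : Nat.card (ProjectiveSpecialLinearGroup (Fin 3) (ZMod 7)) =
      Nat.card (SpecialLinearGroup (Fin 3) (ZMod 7) ⧸ Subgroup.center (SpecialLinearGroup (Fin 3) (ZMod 7))) := rfl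
  rw [this]
  omega

end Cfsg.Agent.Lib.Helper92.ON.L37
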