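import Cfsg.Agent.Lib.Helper92.ON.L37Blocks
import Cfsg.Agent.Lib.Helper92.ON.L37Card

/-!
# The subgroup `⟨a, …, f⟩` of the presented O'Nan group has an index-2 subgroup `≅ PSL(3, 7)` (helper92)
-/

set_option autoImplicit false

namespace Cfsg.Agent.Lib.Helper92.ON.L37
open Cfsg.Agent.Lib.Helper92.VecPerm
open Cfsg.Agent.Lib.Helper92.BlockAct
open Cfsg.Agent.Lib.Helper92.SimpleAux
open Cfsg.Agent.Lib.Helper92.ON
open Cfsg.Spor Cfsg.Spor.ON
open Matrix

/-! ### the stabilizer chain on the 57 blocks -/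

/-- membership in the list of the 49 blocks -/
def inC (x : ℕ) : Bool := ptsC.contains x
/-- membership in the list of the 12 blocks -/
def inD (x : ℕ) : Bool := ptsD.contains x

set_option maxRecDepth 100000 in
theorem chk_A : (List.range 57).all (fun x =>
    evenOK (nthL wordsA x) && Nat.beq (wordAct (nthL wordsA x) 0) x) = true := by decide +kernel

set_option maxRecDepth 100000 in
theorem chk_B : (List.range 57).all (fun x => Nat.beq x 0 ||
    (evenOK (nthL wordsB x) && (Nat.beq (wordAct (nthL wordsB x) 0) 0 &&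
      Nat.beq (wordAct (nthL wordsB x) 1) x))) = true := by decide +kernel

set_option maxRecDepth 100000 in
theorem chk_C : (List.range 57).all (fun x => !(inC x) ||
    (evenOK (nthL wordsC x) && (Nat.beq (wordAct (nthL wordsC x) 0) 0 &&
      (Nat.beq (wordAct (nthL wordsC x) 1) 1 && Nat.beq (wordAct (nthL wordsC x) 2) x)))) = true := by
  decide +kernel

set_option maxRecDepth 100000 in
theorem chk_D : (List.range 57).all (fun x => !(inD x) ||
    (evenOK (nthL wordsD x) && (Nat.beq (wordAct (nthL wordsD x) 0) 0 &&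
      (Nat.beq (wordAct (nthL wordsD x) 1) 1 && (Nat.beq (wordAct (nthL wordsD x) 2) 2 &&
        Nat.beq (wordAct (nthL wordsD x) 3) x))))) = true := by
  decide +kernel

/-- the blocks other than the block 0 -/
def Bset : Finset (Fin 57) := Finset.univ.filter (fun i => i ≠ 0)
/-- the 49 blocks -/
def Cset : Finset (Fin 57) := Finset.univ.filter (fun i => inC i.val = true)
/-- the 12 blocks -/
def Dset : Finset (Fin 57) := Finset.univ.filter (fun i => inD i.val = true)

theorem Bset_card : Bset.card = 56 := by decide +kernel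
theorem Cset_card : Cset.card = 49 := by decide +kernel
theorem Dset_card : Dset.card = 12 := by decide +kernel

theorem hA (x : Fin 57) : ∃ g : N0, g • (0 : Fin 57) = x := by
  have h := chk_A
  rw [List.all_eq_true] at h
  have hx := h x.val (List.mem_range.mpr x.isLt)
  rw [Bool.and_eq_true] at hx
  refine ⟨wordEl _ hx.1, Fin.ext ?_⟩
  rw [wordEl_smul]
  exact Nat.eq_of_beq_eq_true hx.2

theorem hB (x : Fin 57) (hx : x ∈ Bset) : ∃ g : N0, g • (0 : Fin 57) = 0 ∧ g • (1 : Fin 57) = x := by
  have h := chk_B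
  rw [List.all_eq_true] at h
  have hx' := h x.val (List.mem_range.mpr x.isLt)
  have hne : x ≠ 0 := by simpa [Bset] using hx
  have hne' : Nat.beq x.val 0 = false := by
    rw [Bool.eq_false_iff]
    intro e
    exact hne (Fin.ext (Nat.eq_of_beq_eq_true e))
  rw [hne', Bool.false_or, Bool.and_eq_true, Bool.and_eq_true] at hx'
  obtain ⟨h1, h2, h3⟩ := hx'
  refine ⟨wordEl _ h1, Fin.ext ?_, Fin.ext ?_⟩
  · rw [wordEl_smul]; exact Nat.eq_of_beq_eq_true h2
  · rw [wordEl_smul]; exact Nat.eq_of_beq_eq_true h3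

theorem hC (x : Fin 57) (hx : x ∈ Cset) :
    ∃ g : N0, g • (0 : Fin 57) = 0 ∧ g • (1 : Fin 57) = 1 ∧ g • (2 : Fin 57) = x := by
  have h := chk_C
  rw [List.all_eq_true] at h
  have hx' := h x.val (List.mem_range.mpr x.isLt)
  have hin : inC x.val = true := by simpa [Cset] using hx
  rw [hin] at hx'
  simp only [Bool.not_true, Bool.false_or, Bool.and_eq_true] at hx'
  obtain ⟨h1, h2, h3, h4⟩ := hx'
  refine ⟨wordEl _ h1, Fin.ext ?_, Fin.ext ?_, Fin.ext ?_⟩
  · rw [wordEl_smul]; exact Nat.eq_of_beq_eq_true h2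
  · rw [wordEl_smul]; exact Nat.eq_of_beq_eq_true h3
  · rw [wordEl_smul]; exact Nat.eq_of_beq_eq_true h4

theorem hD (x : Fin 57) (hx : x ∈ Dset) :
    ∃ g : N0, g • (0 : Fin 57) = 0 ∧ g • (1 : Fin 57) = 1 ∧ g • (2 : Fin 57) = 2 ∧
      g • (3 : Fin 57) = x := by
  have h := chk_D
  rw [List.all_eq_true] at h
  have hx' := h x.val (List.mem_range.mpr x.isLt)
  have hin : inD x.val = true := by simpa [Dset] using hx
  rw [hin] at hx'
  simp only [Bool.not_true, Bool.false_or, Bool.and_eq_true] at hx'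
  obtain ⟨h1, h2, h3, h4, h5⟩ := hx'
  refine ⟨wordEl _ h1, Fin.ext ?_, Fin.ext ?_, Fin.ext ?_, Fin.ext ?_⟩
  · rw [wordEl_smul]; exact Nat.eq_of_beq_eq_true h2
  · rw [wordEl_smul]; exact Nat.eq_of_beq_eq_true h3
  · rw [wordEl_smul]; exact Nat.eq_of_beq_eq_true h4
  · rw [wordEl_smul]; exact Nat.eq_of_beq_eq_true h5

theorem finite_OG : Finite OG := card_OG_le.1

theorem card_onH_eq : Nat.card onH = 3753792 := by
  have h1 := onH.index_mul_card
  rw [index_eq, card_OG] at h1
  omega

theorem card_N0_le : Nat.card N0 ≤ 1876896 := by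
  haveI := finite_OG
  have e : Nat.card (N0.subgroupOf onH) = Nat.card N0 :=
    Nat.card_congr (Subgroup.subgroupOfEquivOfLe N0_le_onH).toEquiv
  have hmul := (N0.subgroupOf onH).index_mul_card
  rw [card_onH_eq, e] at hmul
  have hne1 : (N0.subgroupOf onH).index ≠ 1 := by
    intro h1
    rw [Subgroup.index_eq_one, Subgroup.subgroupOf_eq_top] at h1
    exact lv0_not_mem (N0_le_stab (h1 (lv_sub 0 (by norm_num))))
  have hne0 : (N0.subgroupOf onH).index ≠ 0 := Subgroup.index_ne_zero_of_finite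
  have h2 : 2 ≤ (N0.subgroupOf onH).index := by omega
  have h3 : 2 * Nat.card N0 ≤ (N0.subgroupOf onH).index * Nat.card N0 := Nat.mul_le_mul_right _ h2
  rw [hmul] at h3
  omega

/-- the order of the subgroup, and its faithfulness on the four base blocks -/
theorem card_and_faithful57 : Nat.card N0 = 1876896 ∧
    ∀ g : N0, g • (0 : Fin 57) = 0 → g • (1 : Fin 57) = 1 → g • (2 : Fin 57) = 2 →
      g • (3 : Fin 57) = 3 → g = 1 := by
  haveI := finite_OG
  have hcards : (Finset.univ : Finset (Fin 57)).card * Bset.card * Cset.card * Dset.card = 1876896 := by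
    rw [Finset.card_univ, Fintype.card_fin, Bset_card, Cset_card, Dset_card]
  have key := chain4_eq_and_faithful (G := N0) (0 : Fin 57) 1 2 3 Finset.univ Bset Cset Dset
    (fun x _ => hA x) hB hC hD (by rw [hcards]; exact card_N0_le)
  rw [hcards] at key
  exact key

theorem card_N0 : Nat.card N0 = 1876896 := card_and_faithful57.1

theorem theta_injective : Function.Injective theta := by
  rw [injective_iff_map_eq_one]
  intro g hg
  apply card_and_faithful57.2 g
  all_goals rw [smul57, hg]; rfl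

/-! ### the projective plane over `ZMod 7` -/

/-- the space `(ZMod 7)^3` -/
abbrev V37 : Type := Fin 3 → ZMod 7

/-- the projective plane -/
abbrev PP : Type := Projectivization (ZMod 7) V37

/-- coordinates of the blocks -/
def vecF (j : ℕ) : V37 :=
  ![(nth (nthL vecL j) 0 : ZMod 7), (nth (nthL vecL j) 1 : ZMod 7), (nth (nthL vecL j) 2 : ZMod 7)]

/-- the matrices -/
def matF (x : ℕ) : Matrix (Fin 3) (Fin 3) (ZMod 7) :=
  !![(nth (nthL matL x) 0 : ZMod 7), (nth (nthL matL x) 1 : ZMod 7), (nth (nthL matL x) 2 : ZMod 7);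
     (nth (nthL matL x) 3 : ZMod 7), (nth (nthL matL x) 4 : ZMod 7), (nth (nthL matL x) 5 : ZMod 7);
     (nth (nthL matL x) 6 : ZMod 7), (nth (nthL matL x) 7 : ZMod 7), (nth (nthL matL x) 8 : ZMod 7)]

/-- matrix times vector, written out -/
def mv (M : Matrix (Fin 3) (Fin 3) (ZMod 7)) (v : V37) : V37 :=
  ![M 0 0 * v 0 + M 0 1 * v 1 + M 0 2 * v 2, M 1 0 * v 0 + M 1 1 * v 1 + M 1 2 * v 2,
    M 2 0 * v 0 + M 2 1 * v 1 + M 2 2 * v 2]

theorem mulVec_eq_mv (M : Matrix (Fin 3) (Fin 3) (ZMod 7)) (v : V37) : M *ᵥ v = mv M v := by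
  ext i
  fin_cases i <;> simp [mv, Matrix.mulVec, dotProduct, Fin.sum_univ_three]

set_option maxRecDepth 100000 in
theorem vecF_ne : ∀ j : Fin 57, vecF j.val ≠ 0 := by decide +kernel

set_option maxRecDepth 100000 in
theorem vecF_inj : ∀ i j : Fin 57, (∃ a : ZMod 7, a • vecF j.val = vecF i.val) → i = j := by
  decide +kernel

set_option maxRecDepth 100000 in
theorem det_matF : ∀ x : Fin 6,
    matF x.val 0 0 * matF x.val 1 1 * matF x.val 2 2 - matF x.val 0 0 * matF x.val 1 2 * matF x.val 2 1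
      - matF x.val 0 1 * matF x.val 1 0 * matF x.val 2 2 + matF x.val 0 1 * matF x.val 1 2 * matF x.val 2 0
      + matF x.val 0 2 * matF x.val 1 0 * matF x.val 2 1 - matF x.val 0 2 * matF x.val 1 1 * matF x.val 2 0 = 1 := by
  decide +kernel

set_option maxRecDepth 100000 in
theorem chk_mat : ∀ x : Fin 6, ∀ j : Fin 57,
    ∃ a : ZMod 7, a • vecF (Pt x.val j.val) = mv (matF x.val) (vecF j.val) := by
  decide +kernel

/-- the matrices as elements of `SL(3, 7)` -/
def slF (x : Fin 6) : SpecialLinearGroup (Fin 3) (ZMod 7) :=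
  ⟨matF x.val, by rw [Matrix.det_fin_three]; exact det_matF x⟩

/-- the blocks as points of the plane -/
def ptF (j : Fin 57) : PP := Projectivization.mk (ZMod 7) (vecF j.val) (vecF_ne j)

theorem ptF_injective : Function.Injective ptF := by
  intro i j h
  unfold ptF at h
  rw [Projectivization.mk_eq_mk_iff'] at h
  exact vecF_inj i j h

theorem card_PP : Nat.card PP = 57 := by
  rw [Projectivization.card_of_finrank (ZMod 7) V37 (n := 3) (by simp), Nat.card_zmod]
  simp [Finset.sum_range_succ]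

theorem ptF_bijective : Function.Bijective ptF := by
  rw [Nat.bijective_iff_injective_and_card]
  exact ⟨ptF_injective, by rw [card_PP, Nat.card_eq_fintype_card, Fintype.card_fin]⟩

/-- the 57 blocks are the 57 points -/
noncomputable def eE : Fin 57 ≃ PP := Equiv.ofBijective ptF ptF_bijective

theorem eE_apply (j : Fin 57) : eE j = ptF j := rfl

/-- the action of `PSL(3, 7)` on the 57 blocks -/
noncomputable def rho : ProjectiveSpecialLinearGroup (Fin 3) (ZMod 7) →* Equiv.Perm (Fin 57) :=
  (Equiv.permCongrHom eE.symm).toMonoidHom.comp Projectivization.PSLAction.toPermHom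

theorem rho_injective : Function.Injective rho := by
  unfold rho
  rw [MonoidHom.coe_comp]
  exact (Equiv.permCongrHom eE.symm).injective.comp
    Matrix.ProjectiveSpecialLinearGroup.toPermHom_injective

theorem slF_smul (x : Fin 6) (j : Fin 57) (hlt : Pt x.val j.val < 57) :
    slF x • ptF j = ptF ⟨Pt x.val j.val, hlt⟩ := by
  unfold ptF
  rw [Projectivization.smul_mk, Projectivization.mk_eq_mk_iff']
  obtain ⟨a, ha⟩ := chk_mat x j
  refine ⟨a, ?_⟩
  rw [ha, ← mulVec_eq_mv]
  rfl

theorem rho_slF (x : Fin 6) (j : Fin 57) (hlt : Pt x.val j.val < 57) :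
    rho ((slF x : SpecialLinearGroup (Fin 3) (ZMod 7)) : ProjectiveSpecialLinearGroup (Fin 3) (ZMod 7)) j
      = ⟨Pt x.val j.val, hlt⟩ := by
  show eE.symm (slF x • eE j) = _
  rw [Equiv.symm_apply_eq, eE_apply, eE_apply, slF_smul x j hlt]

/-! ### the isomorphism -/

theorem theta_gx (x : Fin 6) :
    theta ⟨gx x.val, gx_mem x.val x.isLt⟩ =
      rho ((slF x : SpecialLinearGroup (Fin 3) (ZMod 7)) : ProjectiveSpecialLinearGroup (Fin 3) (ZMod 7)) := by
  ext j
  have hlt : Pt x.val j.val < 57 := (chk_at x.val j.val x.isLt j.isLt).2.2.1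
  rw [rho_slF x j hlt]
  have := theta_apply ⟨gx x.val, gx_mem x.val x.isLt⟩ j ⟨Pt x.val j.val, hlt⟩
    (gx_smul x.val j.val x.isLt j.isLt)
  rw [this]

theorem theta_mem_range (g : OG) (hg : g ∈ N0) : theta ⟨g, hg⟩ ∈ rho.range := by
  unfold N0 at hg
  induction hg using Subgroup.closure_induction with
  | mem y hy =>
    obtain ⟨x, hx, rfl⟩ := hy
    exact ⟨_, (theta_gx ⟨x, hx⟩).symm⟩
  | one =>
    have e : (⟨1, Subgroup.one_mem _⟩ : N0) = 1 := rfl
    rw [e, map_one]
    exact rho.range.one_mem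
  | mul y z hy hz ihy ihz =>
    have e : (⟨y * z, Subgroup.mul_mem _ hy hz⟩ : N0) = ⟨y, hy⟩ * ⟨z, hz⟩ := rfl
    rw [e, map_mul]
    exact rho.range.mul_mem ihy ihz
  | inv y hy ih =>
    have e : (⟨y⁻¹, Subgroup.inv_mem _ hy⟩ : N0) = (⟨y, hy⟩ : N0)⁻¹ := rfl
    rw [e, map_inv]
    exact rho.range.inv_mem ih

theorem theta_range_le : theta.range ≤ rho.range := by
  rintro _ ⟨g, rfl⟩
  exact theta_mem_range g.1 g.2

theorem theta_range_eq : theta.range = rho.range := by
  have := finite_OG
  have : Finite (ProjectiveSpecialLinearGroup (Fin 3) (ZMod 7)) :=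
    Nat.finite_of_card_ne_zero (by rw [card_PSL37]; norm_num)
  apply Subgroup.eq_of_le_of_card_ge theta_range_le
  rw [← Nat.card_congr (MonoidHom.ofInjective theta_injective).toEquiv,
    ← Nat.card_congr (MonoidHom.ofInjective rho_injective).toEquiv, card_N0, card_PSL37]

/-- the subgroup generated by the products `a x` is isomorphic to `PSL(3, 7)` -/
noncomputable def isoN0 : N0 ≃* ProjectiveSpecialLinearGroup (Fin 3) (ZMod 7) :=
  (MonoidHom.ofInjective theta_injective).trans
    ((MulEquiv.subgroupCongr theta_range_eq).trans (MonoidHom.ofInjective rho_injective).symm)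

/-- the statement: an index-2 normal subgroup of `⟨a, …, f⟩` isomorphic to `PSL(3, 7)` -/
theorem main : ∃ N : Subgroup onH, N.Normal ∧ N.index = 2 ∧
    Nonempty (N ≃* ProjectiveSpecialLinearGroup (Fin 3) (ZMod 7)) := by
  haveI := finite_OG
  have e : Nat.card (N0.subgroupOf onH) = Nat.card N0 :=
    Nat.card_congr (Subgroup.subgroupOfEquivOfLe N0_le_onH).toEquiv
  have hidx : (N0.subgroupOf onH).index = 2 := by
    have hmul := (N0.subgroupOf onH).index_mul_card
    rw [card_onH_eq, e, card_N0] at hmul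
    exact Nat.eq_of_mul_eq_mul_right (by norm_num : 0 < 1876896) (hmul.trans (by norm_num))
  exact ⟨N0.subgroupOf onH, Subgroup.normal_of_index_eq_two hidx, hidx,
    ⟨(Subgroup.subgroupOfEquivOfLe N0_le_onH).trans isoN0⟩⟩

end Cfsg.Agent.Lib.Helper92.ON.L37
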