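import Cfsg.Agent.Lib.Helper92.ON.ActA
import Cfsg.Prelude.Def_Spor_ON

/-!
# The presented O'Nan group acts on 122760 points with `⟨a, …, f⟩` fixing a point (helper92)
-/

set_option autoImplicit false

namespace Cfsg.Agent.Lib.Helper92.ON
open Cfsg.Agent.Lib.Helper92.VecPerm
open Cfsg.Spor Cfsg.Spor.ON

/-- the relators of the presentation -/
abbrev onRels : Set (FreeGroup Gen) := coxRelators edges ∪ {r | r ∈ extra}

/-- index of a generator -/
def gi : Gen → ℕ
  | .g => 6 | .a => 0 | .b => 1 | .c => 2 | .d => 3 | .e => 4 | .f => 5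

/-- the permutation of letter `x` -/
noncomputable def gp (x : ℕ) : Equiv.Perm ℕ := netPerm (nets x) (netsOK x)

/-- the permutation of a generator -/
noncomputable def genPerm (x : Gen) : Equiv.Perm ℕ := gp (gi x)

theorem wordPerm_eq_prod (w : List ℕ) : wordPerm netsOK w = (w.map gp).prod := rfl

theorem wp_eq {u v : List ℕ} (h : eqCheck nets 17 u v = true) :
    (u.map gp).prod = (v.map gp).prod := by
  rw [← wordPerm_eq_prod, ← wordPerm_eq_prod]
  exact wordPerm_eq_of_check netsOK (by norm_num) h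

theorem prod_coxWord (x y m : ℕ) : ((coxWord x y m).map gp).prod = (gp x * gp y) ^ m := by
  induction m with
  | zero => simp [coxWord]
  | succ m ih =>
    unfold coxWord at ih ⊢
    rw [List.replicate_succ, List.flatten_cons, List.map_append, List.prod_append, ih, pow_succ']
    simp

/-- the Coxeter label as a function of indices -/
def lblN (i j : ℕ) : ℕ :=
  if i = j then 1 else if (i + 1 = j ∨ j + 1 = i) then (if (i = 2 ∧ j = 3) ∨ (i = 3 ∧ j = 2) then 8 else 3) else 2

theorem cox_all (i j : ℕ) (hi : i < 6) (hj : j < 6) : (gp i * gp j) ^ (lblN i j) = 1 := by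
  have hmem : (i, j, lblN i j) ∈ coxTriples := by
    interval_cases i <;> interval_cases j <;> decide
  have h := chk_cox
  rw [List.all_eq_true] at h
  have h2 := wp_eq (h _ hmem)
  rw [prod_coxWord] at h2
  simpa using h2

theorem coxLabel_eq (x y : Gen) (hx : gi x < 6) (hy : gi y < 6) :
    coxLabel edges x y = lblN (gi x) (gi y) := by
  cases x <;> cases y <;> first | rfl | (simp [gi] at hx hy)

theorem gp_sq (i : ℕ) (hi : i < 6) : gp i * gp i = 1 := by
  have h := cox_all i i hi hi
  have e : lblN i i = 1 := by simp [lblN]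
  rwa [e, pow_one] at h

theorem gi_lt_of_mem {x : Gen} (hx : x ∈ coxNodes edges) : gi x < 6 := by
  cases x <;> simp [coxNodes, edges, gi] at hx ⊢

theorem gp_inv (i : ℕ) (hi : i < 6) : (gp i)⁻¹ = gp i := by
  have h := cox_all i i hi hi
  have e : lblN i i = 1 := by simp [lblN]
  rw [e, pow_one] at h
  exact inv_eq_of_mul_eq_one_left h

theorem e_r1 : gp 0 * gp 5 = gp 6 * gp 6 := by simpa using wp_eq chk_r1
theorem e_r2 : gp 0 * gp 5 = (gp 2 * gp 3) ^ 4 := by
  have := wp_eq chk_r2
  simp only [List.map_cons, List.map_nil, List.prod_cons, List.prod_nil, mul_one] at this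
  rw [this]; simp only [pow_succ, pow_zero, one_mul, mul_assoc]
theorem e_r3 : gp 2 * (gp 3 * (gp 6 * (gp 3 * gp 6))) = gp 3 * (gp 6 * (gp 3 * (gp 6 * gp 2))) := by
  simpa using wp_eq chk_r3
theorem e_r4 : gp 3 * (gp 2 * (gp 6 * (gp 2 * gp 6))) = gp 2 * (gp 6 * (gp 2 * (gp 6 * gp 3))) := by
  simpa using wp_eq chk_r4
theorem e_r5 : (gp 1 * gp 2 * gp 3 * gp 6) ^ 5 = 1 := by
  have := wp_eq chk_r5
  simp only [List.map_cons, List.map_nil, List.prod_cons, List.prod_nil, mul_one] at this
  rw [← this]; simp only [pow_succ, pow_zero, one_mul, mul_assoc]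
theorem e_r6 : gp 6 * (gp 1 * (gp 2 * (gp 6 * (gp 2 * (gp 1 * (gp 6 * (gp 1 * (gp 2 * (gp 6 * gp 2))))))))) = 1 := by
  simpa using wp_eq chk_r6
theorem e_r7 : gp 6 * (gp 4 * (gp 3 * (gp 6 * (gp 3 * (gp 4 * (gp 6 * (gp 4 * (gp 3 * (gp 6 * gp 3))))))))) = 1 := by
  simpa using wp_eq chk_r7

theorem lift_rel (r : FreeGroup Gen) (hr : r ∈ onRels) : FreeGroup.lift genPerm r = 1 := by
  rcases hr with hr | hr
  · obtain ⟨x, hx, y, hy, rfl⟩ := hr
    rw [map_pow, map_mul, FreeGroup.lift_apply_of, FreeGroup.lift_apply_of,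
      coxLabel_eq _ _ (gi_lt_of_mem hx) (gi_lt_of_mem hy)]
    exact cox_all _ _ (gi_lt_of_mem hx) (gi_lt_of_mem hy)
  · have hr' : r ∈ extra := hr
    have i2 := gp_inv 2 (by norm_num)
    have i3 := gp_inv 3 (by norm_num)
    have i1 := gp_inv 1 (by norm_num)
    have i4 := gp_inv 4 (by norm_num)
    simp only [extra, List.mem_cons, List.not_mem_nil, or_false] at hr'
    rcases hr' with rfl | rfl | rfl | rfl | rfl | rfl | rfl
    · simp only [map_mul, map_inv, map_pow, FreeGroup.lift_apply_of, genPerm, gi]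
      rw [e_r1, sq]; group
    · simp only [map_mul, map_inv, map_pow, FreeGroup.lift_apply_of, genPerm, gi]
      rw [e_r2]; group
    · simp only [map_mul, map_inv, map_pow, FreeGroup.lift_apply_of, genPerm, gi]
      have h := e_r3
      have hc : gp 2 * gp 2 = 1 := gp_sq 2 (by norm_num)
      have e : (gp 3 * gp 6 * gp 3 * gp 6)⁻¹ * gp 2 * (gp 3 * gp 6 * gp 3 * gp 6) = gp 2 := by
        have : gp 2 * (gp 3 * gp 6 * gp 3 * gp 6) = (gp 3 * gp 6 * gp 3 * gp 6) * gp 2 := by
          simpa [mul_assoc] using h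
        rw [mul_assoc, this]; group
      rw [e, hc]
    · simp only [map_mul, map_inv, map_pow, FreeGroup.lift_apply_of, genPerm, gi]
      have h := e_r4
      have hc : gp 3 * gp 3 = 1 := gp_sq 3 (by norm_num)
      have e : (gp 2 * gp 6 * gp 2 * gp 6)⁻¹ * gp 3 * (gp 2 * gp 6 * gp 2 * gp 6) = gp 3 := by
        have : gp 3 * (gp 2 * gp 6 * gp 2 * gp 6) = (gp 2 * gp 6 * gp 2 * gp 6) * gp 3 := by
          simpa [mul_assoc] using h
        rw [mul_assoc, this]; group
      rw [e, hc]
    · simp only [map_mul, map_inv, map_pow, FreeGroup.lift_apply_of, genPerm, gi]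
      exact e_r5
    · simp only [map_mul, map_inv, map_pow, FreeGroup.lift_apply_of, genPerm, gi]
      rw [i2, i1]
      simpa [mul_assoc] using e_r6
    · simp only [map_mul, map_inv, map_pow, FreeGroup.lift_apply_of, genPerm, gi]
      rw [i3, i4]
      simpa [mul_assoc] using e_r7


/-- the action of the presented group on `ℕ` -/
noncomputable def phi : PresentedGroup onRels →* Equiv.Perm ℕ :=
  PresentedGroup.toGroup (f := genPerm) lift_rel

theorem phi_of (x : Gen) : phi (PresentedGroup.of x) = genPerm x := PresentedGroup.toGroup.of _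

/-- the subgroup generated by the images of `a, …, f` -/
abbrev onH : Subgroup (PresentedGroup onRels) :=
  (Subgroup.closure ({a, b, c, d, e, f} : Set (FreeGroup Gen))).map (PresentedGroup.mk onRels)

theorem gp_zero (i : ℕ) (hi : i < 6) : gp i 0 = 0 := by
  have h := chk_fix
  rw [List.all_eq_true] at h
  exact fix_zero_of_check netsOK i (h i (List.mem_range.mpr hi))

theorem phi_fix (h : PresentedGroup onRels) (hh : h ∈ onH) : phi h 0 = 0 := by
  obtain ⟨w, hw, rfl⟩ := hh
  induction hw using Subgroup.closure_induction with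
  | mem x hx =>
    simp only [Set.mem_insert_iff, Set.mem_singleton_iff] at hx
    rcases hx with rfl | rfl | rfl | rfl | rfl | rfl
    all_goals
      show phi (PresentedGroup.of _) 0 = 0
      rw [phi_of]
      exact gp_zero _ (by norm_num [gi])
  | one => simp
  | mul x y _ _ ihx ihy => rw [map_mul, map_mul, Equiv.Perm.mul_apply, ihy, ihx]
  | inv x _ ih =>
    rw [map_inv, map_inv, Equiv.Perm.inv_def, Equiv.symm_apply_eq, ih]

/-- the orbit of `0` contains the first 122760 numbers -/
theorem phi_orbit (i : ℕ) (hi : i < 122760) : ∃ g : PresentedGroup onRels, phi g 0 = i := by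
  have hg : ∀ x ∈ [0, 1, 2, 3, 4, 5, 6], netPerm (nets x) (netsOK x) ∈ phi.range := by
    intro x hx
    simp only [List.mem_cons, List.not_mem_nil, or_false] at hx
    rcases hx with rfl | rfl | rfl | rfl | rfl | rfl | rfl
    · exact ⟨PresentedGroup.of .a, phi_of _⟩
    · exact ⟨PresentedGroup.of .b, phi_of _⟩
    · exact ⟨PresentedGroup.of .c, phi_of _⟩
    · exact ⟨PresentedGroup.of .d, phi_of _⟩
    · exact ⟨PresentedGroup.of .e, phi_of _⟩
    · exact ⟨PresentedGroup.of .f, phi_of _⟩
    · exact ⟨PresentedGroup.of .g, phi_of _⟩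
  have key := orbit_of_check netsOK phi.range [0, 1, 2, 3, 4, 5, 6] hg 18 122760
  obtain ⟨σ, ⟨g, rfl⟩, h⟩ := key chk_orbit i hi
  exact ⟨g, h⟩

/-- the index is at least 122760 (when finite) -/
theorem card_ge [Finite (PresentedGroup onRels ⧸ onH)] :
    122760 ≤ Nat.card (PresentedGroup onRels ⧸ onH) := by
  classical
  let fq : PresentedGroup onRels ⧸ onH → ℕ := Quotient.lift (fun g => phi g 0) (by
    intro g₁ g₂ h
    have h' : g₁⁻¹ * g₂ ∈ onH := QuotientGroup.leftRel_apply.mp h
    have := phi_fix _ h'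
    show phi g₁ 0 = phi g₂ 0
    have e : g₂ = g₁ * (g₁⁻¹ * g₂) := by group
    rw [e, map_mul, Equiv.Perm.mul_apply, this])
  have hsurj : ∀ i : Fin 122760, ∃ q, fq q = i.1 := by
    intro i
    obtain ⟨g, hg⟩ := phi_orbit i.1 i.2
    exact ⟨(g : PresentedGroup onRels ⧸ onH), hg⟩
  choose sec hsec using hsurj
  have hinj : Function.Injective sec := by
    intro i j h
    apply Fin.ext
    rw [← hsec i, ← hsec j, h]
  have := Nat.card_le_card_of_injective sec hinj
  rwa [Nat.card_fin] at this

end Cfsg.Agent.Lib.Helper92.ON
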