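import Cfsg.Agent.Lib.Helper92.VecPerm3
import Cfsg.Agent.Lib.Helper92.ON.ActA

/-!
# Orbits of `⟨a, …, f⟩` and of `⟨a, b, c, d⟩` on the 122760 points (helper92)
-/

set_option autoImplicit false

namespace Cfsg.Agent.Lib.Helper92.ON
open Cfsg.Agent.Lib.Helper92.VecPerm

/-- the generators preserve the mask of the first `n` points -/
noncomputable def presCheck (gens : List ℕ) (n : ℕ) : Bool :=
  gens.all fun x => Nat.beq (netV (nets x) (Nat.sub (Nat.pow 2 n) 1)) (Nat.sub (Nat.pow 2 n) 1)

theorem pres_of_check (gens : List ℕ) (n : ℕ) (h : presCheck gens n = true) :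
    ∀ x ∈ gens, ∀ i, netP (nets x) i < n ↔ i < n := by
  intro x hx i
  unfold presCheck at h
  rw [List.all_eq_true] at h
  exact lt_of_check netsOK x n (h x hx) i

/-- a mask contains the first `n` points -/
noncomputable def coverCheck (m n : ℕ) : Bool :=
  Nat.beq (Nat.land m (Nat.sub (Nat.pow 2 n) 1)) (Nat.sub (Nat.pow 2 n) 1)

theorem cover_of_check (m n : ℕ) (h : coverCheck m n = true) : ∀ i < n, m.testBit i = true := by
  intro i hi
  have e : m &&& (2 ^ n - 1) = 2 ^ n - 1 := Nat.eq_of_beq_eq_true h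
  have : (m &&& (2 ^ n - 1)).testBit i = true := by
    rw [e, Nat.testBit_two_pow_sub_one]; simpa using hi
  rw [Nat.testBit_and, Bool.and_eq_true] at this
  exact this.1

/-- seeds of the five orbits of `⟨a, …, f⟩` -/
def seedOf : ℕ → ℕ
  | 0 => 0 | 1 => 1 | 2 => 10 | 3 => 17 | _ => 32

/-- numbers of rounds that exhaust the orbits -/
def roundsOf : ℕ → ℕ
  | 0 => 0 | 1 => 29 | 2 => 43 | 3 => 38 | _ => 24

/-- lengths of the orbits -/
def szOf : ℕ → ℕ
  | 0 => 1 | 1 => 58653 | 2 => 52136 | 3 => 5586 | _ => 6384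

/-- the masks of the five orbits of `⟨a, …, f⟩` -/
noncomputable def msk (j : ℕ) : ℕ :=
  reachFrom nets [0, 1, 2, 3, 4, 5] (2 ^ seedOf j) (roundsOf j)

/-- the mask of the orbit of the point 74 under `⟨a, b, c, d⟩` -/
noncomputable def mskM : ℕ := reachFrom nets [0, 1, 2, 3] (2 ^ 74) 12

set_option maxRecDepth 100000 in
theorem chk_pres : presCheck [0, 1, 2, 3, 4, 5, 6] 122760 = true := by decide +kernel

set_option maxRecDepth 100000 in
theorem chk_cover :
    coverCheck (Nat.lor (msk 0) (Nat.lor (msk 1) (Nat.lor (msk 2) (Nat.lor (msk 3) (msk 4))))) 122760 = true := by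
  decide +kernel

set_option maxRecDepth 100000 in
theorem chk_disj : (List.range 5).all (fun i => (List.range 5).all (fun j =>
    Nat.beq i j || Nat.beq (Nat.land (msk i) (msk j)) 0)) = true := by
  decide +kernel

set_option maxRecDepth 100000 in
theorem chk_pop : (List.range 5).all (fun j => Nat.beq (popTop (msk j) 122760) (szOf j)) = true := by
  decide +kernel

set_option maxRecDepth 100000 in
theorem chk_popM : popTop mskM 122760 = 672 := by decide +kernel

set_option maxRecDepth 100000 in
theorem chk_fix17 : (List.range 4).all (fun x => Nat.beq (netV (nets x) (2 ^ 17)) (2 ^ 17)) = true := by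
  decide +kernel

set_option maxRecDepth 100000 in
theorem msk_zero : msk 0 = 1 := by decide +kernel

end Cfsg.Agent.Lib.Helper92.ON
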