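import Cfsg.Agent.Lib.Helper92.ON.OrderUpper
import Cfsg.Agent.Lib.Helper92.ON.Orbits
import Cfsg.Agent.Lib.Helper92.SimpleAux

/-!
# The presented O'Nan group is simple of order 460815505920 (helper92)
-/

set_option autoImplicit false

namespace Cfsg.Agent.Lib.Helper92.ON
open Cfsg.Agent.Lib.Helper92.VecPerm
open Cfsg.Agent.Lib.Helper92.TCert
open Cfsg.Agent.Lib.Helper92.SimpleAux
open Cfsg.Spor Cfsg.Spor.ON

theorem phi_lv (x : ℕ) (hx : x < 7) : phi (lv x) = gp x := by
  interval_cases x <;> exact phi_of _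

theorem gp_apply (x i : ℕ) : gp x i = netP (nets x) i := rfl

/-- the action preserves the set of the first 122760 points -/
theorem phi_lt (g : OG) : ∀ i, phi g i < 122760 ↔ i < 122760 := by
  have hg : g ∈ Subgroup.closure (Set.range (PresentedGroup.of : Gen → OG)) := by
    rw [PresentedGroup.closure_range_of]; trivial
  induction hg using Subgroup.closure_induction with
  | mem y hy =>
    obtain ⟨z, rfl⟩ := hy
    intro i
    rw [phi_of]
    show netP (nets (gi z)) i < 122760 ↔ i < 122760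
    exact pres_of_check [0, 1, 2, 3, 4, 5, 6] 122760 chk_pres (gi z) (by cases z <;> simp [gi]) i
  | one => intro i; simp
  | mul y z _ _ ihy ihz =>
    intro i
    rw [map_mul, Equiv.Perm.mul_apply, ihy, ihz]
  | inv y _ ih =>
    intro i
    have h := ih (phi y⁻¹ i)
    simp only [map_inv, Equiv.Perm.inv_def, Equiv.apply_symm_apply] at h
    simp only [map_inv, Equiv.Perm.inv_def]
    exact h.symm

/-- the action on the 122760 points -/
noncomputable def psi : OG →* Equiv.Perm (Fin 122760) where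
  toFun g :=
    { toFun := fun i => ⟨phi g i.val, (phi_lt g i.val).mpr i.isLt⟩
      invFun := fun i => ⟨phi g⁻¹ i.val, (phi_lt g⁻¹ i.val).mpr i.isLt⟩
      left_inv := fun i => Fin.ext (by simp [map_inv])
      right_inv := fun i => Fin.ext (by simp [map_inv]) }
  map_one' := by ext i; simp
  map_mul' := fun g h => by ext i; simp [map_mul]

theorem psi_val (g : OG) (i : Fin 122760) : (psi g i).val = phi g i.val := rfl

/-- the action as a `MulAction` -/
noncomputable instance actON : MulAction OG (Fin 122760) := MulAction.compHom _ psi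

theorem smul_val (g : OG) (i : Fin 122760) : (g • i).val = phi g i.val := rfl

/-- orbits computed by the networks are orbits of subgroups generated by letters -/
theorem reach_mem (L : Subgroup OG) (gens : List ℕ) (hg : ∀ x ∈ gens, x < 7 ∧ lv x ∈ L) (s k i : ℕ)
    (h : (reachFrom nets gens (2 ^ s) k).testBit i = true) : ∃ g ∈ L, phi g s = i := by
  have hg' : ∀ x ∈ gens, netPerm (nets x) (netsOK x) ∈ L.map phi := by
    intro x hx
    obtain ⟨h7, hL⟩ := hg x hx
    exact ⟨lv x, hL, phi_lv x h7⟩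
  obtain ⟨σ, ⟨g, hgL, rfl⟩, hσ⟩ := reachFrom_sound netsOK (L.map phi) gens hg' s k i h
  exact ⟨g, hgL, hσ⟩

theorem gensH_ok : ∀ x ∈ [0, 1, 2, 3, 4, 5], x < 7 ∧ lv x ∈ onH := by
  intro x hx
  have hx6 : x < 6 := by
    simp only [List.mem_cons, List.not_mem_nil, or_false] at hx
    omega
  exact ⟨by omega, lv_sub x hx6⟩

theorem gensM_ok : ∀ x ∈ [0, 1, 2, 3], x < 7 ∧ lv x ∈ Msub := by
  intro x hx
  have hx4 : x < 4 := by
    simp only [List.mem_cons, List.not_mem_nil, or_false] at hx
    omega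
  exact ⟨by omega, by rw [← lvM_eq x hx4]; exact Subgroup.subset_closure ⟨x, hx4, rfl⟩⟩

/-- the five orbits of `⟨a, …, f⟩` -/
noncomputable def Sorb (j : Fin 5) : Finset (Fin 122760) :=
  Finset.univ.filter (fun i => (msk j.val).testBit i.val = true)

/-- the orbit of the point 74 under `⟨a, b, c, d⟩` -/
noncomputable def Morb : Finset (Fin 122760) :=
  Finset.univ.filter (fun i => mskM.testBit i.val = true)

theorem mem_Sorb (j : Fin 5) (i : Fin 122760) : i ∈ Sorb j ↔ (msk j.val).testBit i.val = true := by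
  simp [Sorb]

theorem Sorb_card (j : Fin 5) : (Sorb j).card = szOf j.val := by
  unfold Sorb
  rw [card_filter_fin 122760 (fun i => (msk j.val).testBit i = true), ← popTop_eq]
  have h := chk_pop
  rw [List.all_eq_true] at h
  exact Nat.eq_of_beq_eq_true (h j.val (List.mem_range.mpr j.isLt))

theorem Morb_card : Morb.card = 672 := by
  unfold Morb
  rw [card_filter_fin 122760 (fun i => mskM.testBit i = true), ← popTop_eq]
  exact chk_popM

theorem Sorb_zero : Sorb 0 = ({(0 : Fin 122760)} : Finset (Fin 122760)) := by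
  ext i
  rw [mem_Sorb, Finset.mem_singleton]
  show (msk 0).testBit i.val = true ↔ _
  rw [msk_zero]
  have e : (1 : ℕ) = 2 ^ 0 := rfl
  rw [e, Nat.testBit_two_pow]
  constructor
  · intro h
    apply Fin.ext
    have : 0 = i.val := by simpa using h
    exact this.symm
  · rintro rfl; simp

theorem Sorb_cover (i : Fin 122760) : ∃ j, i ∈ Sorb j := by
  have h := cover_of_check _ 122760 chk_cover i.val i.isLt
  have h' : (msk 0 ||| (msk 1 ||| (msk 2 ||| (msk 3 ||| msk 4)))).testBit i.val = true := h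
  simp only [Nat.testBit_or, Bool.or_eq_true] at h'
  rcases h' with h' | h' | h' | h' | h'
  · exact ⟨0, (mem_Sorb 0 i).mpr h'⟩
  · exact ⟨1, (mem_Sorb 1 i).mpr h'⟩
  · exact ⟨2, (mem_Sorb 2 i).mpr h'⟩
  · exact ⟨3, (mem_Sorb 3 i).mpr h'⟩
  · exact ⟨4, (mem_Sorb 4 i).mpr h'⟩

theorem Sorb_disj (i j : Fin 5) (hij : i ≠ j) : Disjoint (Sorb i) (Sorb j) := by
  have h := chk_disj
  rw [List.all_eq_true] at h
  have h2 := h i.val (List.mem_range.mpr i.isLt)
  rw [List.all_eq_true] at h2
  have h3 := h2 j.val (List.mem_range.mpr j.isLt)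
  rw [Bool.or_eq_true] at h3
  have hne : i.val ≠ j.val := fun e => hij (Fin.ext e)
  have h4 : msk i.val &&& msk j.val = 0 := by
    rcases h3 with h3 | h3
    · exact absurd (Nat.eq_of_beq_eq_true h3) hne
    · exact Nat.eq_of_beq_eq_true h3
  rw [Finset.disjoint_left]
  intro x hx hy
  rw [mem_Sorb] at hx hy
  have : (msk i.val &&& msk j.val).testBit x.val = true := by
    rw [Nat.testBit_and, hx, hy]; rfl
  rw [h4] at this
  simp at this

/-- the points of an orbit are images of its seed under `⟨a, …, f⟩` -/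
theorem Sorb_reach (j : Fin 5) (x : Fin 122760) (hx : x ∈ Sorb j) :
    ∃ h ∈ onH, phi h (seedOf j.val) = x.val := by
  rw [mem_Sorb] at hx
  exact reach_mem onH [0, 1, 2, 3, 4, 5] gensH_ok (seedOf j.val) (roundsOf j.val) x.val hx

theorem Sorb_orb (j : Fin 5) (x : Fin 122760) (hx : x ∈ Sorb j) (y : Fin 122760) (hy : y ∈ Sorb j) :
    ∃ h ∈ onH, h • x = y := by
  obtain ⟨h1, hh1, e1⟩ := Sorb_reach j x hx
  obtain ⟨h2, hh2, e2⟩ := Sorb_reach j y hy
  refine ⟨h2 * h1⁻¹, onH.mul_mem hh2 (onH.inv_mem hh1), Fin.ext ?_⟩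
  rw [smul_val, ← e1, ← e2, map_mul, map_inv, Equiv.Perm.mul_apply]
  simp only [Equiv.Perm.inv_def, Equiv.symm_apply_apply]

theorem fix0 (h : OG) (hh : h ∈ onH) : h • (0 : Fin 122760) = 0 :=
  Fin.ext (phi_fix h hh)

theorem trans0 (x : Fin 122760) : ∃ g : OG, g • (0 : Fin 122760) = x := by
  obtain ⟨g, hg⟩ := phi_orbit x.val x.isLt
  exact ⟨g, Fin.ext hg⟩

theorem Msub_le_onH : Msub ≤ onH := by
  rw [onH_eq_Ksub]; exact Msub_le_Ksub

theorem fix17 (m : OG) (hm : m ∈ Msub) : phi m 17 = 17 := by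
  unfold Msub at hm
  induction hm using Subgroup.closure_induction with
  | mem y hy =>
    obtain ⟨x, hx, rfl⟩ := hy
    have hx4 : x < 4 := hx
    rw [lvM_eq x hx4, phi_lv x (by omega), gp_apply]
    have h := chk_fix17
    rw [List.all_eq_true] at h
    exact fix_of_check netsOK x 17 (h x (List.mem_range.mpr hx4))
  | one => simp
  | mul y z _ _ ihy ihz => rw [map_mul, Equiv.Perm.mul_apply, ihz, ihy]
  | inv y _ ih =>
    rw [map_inv, Equiv.Perm.inv_def, Equiv.symm_apply_eq, ih]

/-- upper bound for the order -/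
theorem card_OG_le : Finite OG ∧ Nat.card OG ≤ 460815505920 := by
  obtain ⟨hHf, hHc⟩ := card_onH
  have h1 := onH.index_mul_card
  rw [index_eq] at h1
  have hpos : 0 < Nat.card onH := Nat.card_pos
  have hne : Nat.card OG ≠ 0 := by rw [← h1]; positivity
  refine ⟨Nat.finite_of_card_ne_zero hne, ?_⟩
  rw [← h1]
  calc 122760 * Nat.card onH ≤ 122760 * 3753792 := Nat.mul_le_mul_left _ hHc
    _ = 460815505920 := by norm_num

/-- the order, and faithfulness on the three base points -/
theorem card_and_faithful : Nat.card OG = 460815505920 ∧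
    ∀ g : OG, g • (0 : Fin 122760) = 0 → g • (17 : Fin 122760) = 17 → g • (74 : Fin 122760) = 74 → g = 1 := by
  obtain ⟨hfin, hle⟩ := card_OG_le
  have hA : ∀ x ∈ (Finset.univ : Finset (Fin 122760)), ∃ g : OG, g • (0 : Fin 122760) = x :=
    fun x _ => trans0 x
  have hB : ∀ x ∈ Sorb 3, ∃ g : OG, g • (0 : Fin 122760) = 0 ∧ g • (17 : Fin 122760) = x := by
    intro x hx
    obtain ⟨h, hh, e⟩ := Sorb_reach 3 x hx
    exact ⟨h, fix0 h hh, Fin.ext e⟩
  have hC : ∀ x ∈ Morb, ∃ g : OG, g • (0 : Fin 122760) = 0 ∧ g • (17 : Fin 122760) = 17 ∧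
      g • (74 : Fin 122760) = x := by
    intro x hx
    have hx' : mskM.testBit x.val = true := by simpa [Morb] using hx
    obtain ⟨m, hm, e⟩ := reach_mem Msub [0, 1, 2, 3] gensM_ok 74 12 x.val hx'
    exact ⟨m, fix0 m (Msub_le_onH hm), Fin.ext (fix17 m hm), Fin.ext e⟩
  have hcards : (Finset.univ : Finset (Fin 122760)).card * (Sorb 3).card * Morb.card = 460815505920 := by
    rw [Finset.card_univ, Fintype.card_fin, Sorb_card, Morb_card]
    rfl
  have key := chain_eq_and_faithful (G := OG) (0 : Fin 122760) 17 74 Finset.univ (Sorb 3) Morb hA hB hC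
    (by rw [hcards]; exact hle)
  rw [hcards] at key
  exact key

theorem card_OG : Nat.card OG = 460815505920 := card_and_faithful.1

theorem harith : ∀ J : Finset (Fin 5), (0 : Fin 5) ∈ J → (∑ j ∈ J, szOf j.val) ∣ 122760 →
    J = {0} ∨ J = Finset.univ := by
  decide

/-- the presented O'Nan group is simple -/
theorem simple_OG : IsSimpleGroup OG := by
  obtain ⟨hfin, _⟩ := card_OG_le
  have : Fact (Nat.Prime 5) := ⟨by norm_num⟩
  refine simple_of_suborbits (G := OG) (X := Fin 122760) (0 : Fin 122760) onH fix0 trans0 ?_ Sorb 0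
    Sorb_zero Sorb_cover Sorb_disj Sorb_orb ?_ 5 1 ?_ ?_ g5 ?_ normalClosure_g5 ?_
  · intro g hg
    exact card_and_faithful.2 g (hg 0) (hg 17) (hg 74)
  · intro J h0 hd
    rw [Fintype.card_fin] at hd
    have e : ∑ j ∈ J, (Sorb j).card = ∑ j ∈ J, szOf j.val :=
      Finset.sum_congr rfl (fun j _ => Sorb_card j)
    rw [e] at hd
    exact harith J h0 hd
  · rw [card_OG]; norm_num
  · rw [Fintype.card_fin]; norm_num
  · rw [pow_one]; exact g5_pow
  · rw [Fintype.card_fin]; norm_num

end Cfsg.Agent.Lib.Helper92.ON
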