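import Cfsg.Agent.Lib.Helper92.ON.Upper
import Cfsg.Agent.Lib.Helper92.ON.CertCM
import Cfsg.Agent.Lib.Helper92.ON.CertCK
import Cfsg.Agent.Lib.Helper92.ON.CertCQ

/-!
# The subgroup `⟨a, …, f⟩` of the presented O'Nan group has at most 3753792 elements, and the normal
closure of `b c d g` is everything (helper92)
-/

set_option autoImplicit false

namespace Cfsg.Agent.Lib.Helper92.ON
open Cfsg.Agent.Lib.Helper92.TCert
open Cfsg.Spor Cfsg.Spor.ON

section General
variable {G : Type*} [Group G]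

theorem evr_congr (l1 l2 : ℕ → G) (w : List ℕ) (h : ∀ x ∈ w, l1 x = l2 x) : evr l1 w = evr l2 w := by
  induction w with
  | nil => rfl
  | cons x w ih =>
    rw [evr, evr, ih (fun y hy => h y (List.mem_cons_of_mem _ hy)), h x List.mem_cons_self]

theorem evr_map {G' : Type*} [Group G'] (f : G →* G') (l : ℕ → G) (w : List ℕ) :
    evr (fun x => f (l x)) w = f (evr l w) := by
  induction w with
  | nil => simp [evr]
  | cons x w ih => rw [evr, evr, ih, map_mul]

end General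

/-- letters for `⟨a, …, f⟩` -/
noncomputable def lvK (x : ℕ) : OG :=
  match x with
  | 0 => og .a | 1 => og .b | 2 => og .c | 3 => og .d | 4 => og .e | 5 => og .f | _ => 1

/-- letters for `⟨a, b, c, d⟩` -/
noncomputable def lvM (x : ℕ) : OG :=
  match x with
  | 0 => og .a | 1 => og .b | 2 => og .c | 3 => og .d | _ => 1

theorem lvK_eq (x : ℕ) (hx : x < 6) : lvK x = lv x := by
  interval_cases x <;> rfl

theorem lvM_eq (x : ℕ) (hx : x < 4) : lvM x = lv x := by
  interval_cases x <;> rfl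

theorem lvM_eqK (x : ℕ) (hx : x < 4) : lvM x = lvK x := by
  interval_cases x <;> rfl

/-- relators used for `⟨a, …, f⟩` -/
def relsK : List (List ℕ) :=
  [[1, 0, 1, 0, 1, 0], [2, 0, 2, 0], [3, 0, 3, 0], [4, 0, 4, 0], [5, 0, 5, 0], [2, 1, 2, 1, 2, 1],
   [3, 1, 3, 1], [4, 1, 4, 1], [5, 1, 5, 1], [3, 2, 3, 2, 3, 2, 3, 2, 3, 2, 3, 2, 3, 2, 3, 2],
   [4, 2, 4, 2], [5, 2, 5, 2], [4, 3, 4, 3, 4, 3], [5, 3, 5, 3], [5, 4, 5, 4, 5, 4],
   [2, 3, 2, 3, 2, 3, 2, 3, 5, 0]]

/-- the extra relator of `⟨a, b, c, d⟩`: `((d c)^4 a b)^2` -/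
def relZ : List ℕ := [1, 0, 2, 3, 2, 3, 2, 3, 2, 3, 1, 0, 2, 3, 2, 3, 2, 3, 2, 3]

/-- relators used for `⟨a, b, c, d⟩` -/
def relsM : List (List ℕ) :=
  [[1, 0, 1, 0, 1, 0], [2, 0, 2, 0], [3, 0, 3, 0], [2, 1, 2, 1, 2, 1], [3, 1, 3, 1],
   [3, 2, 3, 2, 3, 2, 3, 2, 3, 2, 3, 2, 3, 2, 3, 2], relZ]

theorem relsK_sub : ∀ w ∈ relsK, w ∈ relsA ∧ ∀ x ∈ w, x < 6 := by decide

theorem relsM_sub : ∀ w ∈ relsM, (w ∈ relsA ∨ w = relZ) ∧ ∀ x ∈ w, x < 4 := by decide

theorem relsK_one : ∀ w ∈ relsK, evr lvK w = 1 := by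
  intro w hw
  obtain ⟨h1, h2⟩ := relsK_sub w hw
  rw [evr_congr lvK lv w (fun x hx => lvK_eq x (h2 x hx))]
  exact relsA_one w h1

theorem relZ_one : evr lv relZ = 1 := by
  have h1 := relsA_one [2, 3, 2, 3, 2, 3, 2, 3, 5, 0] (by simp [relsA])
  have h2 := relsA_one [5, 1, 5, 1] (by simp [relsA])
  have iA := og_sq _ nodeA
  have iF := og_sq _ nodeF
  simp only [evr, lv] at h1 h2
  -- h1 : a f d c d c d c d c = 1 ; h2 : b f b f = 1
  have hX : og .d * og .c * og .d * og .c * og .d * og .c * og .d * og .c = og .f * og .a := by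
    have : og .a * og .f * (og .d * og .c * og .d * og .c * og .d * og .c * og .d * og .c) = 1 := by
      simpa [mul_assoc] using h1
    have h3 : og .d * og .c * og .d * og .c * og .d * og .c * og .d * og .c = (og .a * og .f)⁻¹ :=
      eq_inv_of_mul_eq_one_right this
    rw [h3, mul_inv_rev, inv_eq_of_mul_eq_one_left iA, inv_eq_of_mul_eq_one_left iF]
  have hP : evr lv [1, 0, 2, 3, 2, 3, 2, 3, 2, 3] = og .f * og .b := by
    have : evr lv [1, 0, 2, 3, 2, 3, 2, 3, 2, 3] =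
        og .d * og .c * og .d * og .c * og .d * og .c * og .d * og .c * og .a * og .b := by
      simp [evr, lv, mul_assoc]
    rw [this, hX, mul_assoc (og .f), iA, mul_one]
  have e : relZ = [1, 0, 2, 3, 2, 3, 2, 3, 2, 3] ++ [1, 0, 2, 3, 2, 3, 2, 3, 2, 3] := rfl
  rw [e, evr_append, hP]
  -- f b f b = 1
  have h4 : og .b * og .f * og .b * og .f = 1 := by simpa [mul_assoc] using h2
  have h5 : og .f * og .b * (og .f * og .b) = (og .b)⁻¹ * (og .b * og .f * og .b * og .f) * og .b := by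
    group
  rw [h5, h4]; group

theorem relsM_one : ∀ w ∈ relsM, evr lvM w = 1 := by
  intro w hw
  obtain ⟨h1, h2⟩ := relsM_sub w hw
  rw [evr_congr lvM lv w (fun x hx => lvM_eq x (h2 x hx))]
  rcases h1 with h1 | h1
  · exact relsA_one w h1
  · rw [h1]; exact relZ_one

/-- the subgroup `⟨a, b, c, d⟩` -/
noncomputable def Msub : Subgroup OG := Subgroup.closure (lvM '' {x | x < 4})

/-- the subgroup `⟨a, …, f⟩` -/
noncomputable def Ksub : Subgroup OG := Subgroup.closure (lvK '' {x | x < 6})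

theorem lvM_ic (x : ℕ) (hx : x < 8) : lvM (ic x) = (lvM x)⁻¹ := by
  have iA := og_inv _ nodeA
  have iB := og_inv _ nodeB
  have iC := og_inv _ nodeC
  have iD := og_inv _ nodeD
  interval_cases x
  · exact iA.symm
  · exact iB.symm
  · exact iC.symm
  · exact iD.symm
  all_goals (show (1 : OG) = 1⁻¹; rw [inv_one])

theorem lvK_ic (x : ℕ) (hx : x < 8) : lvK (ic x) = (lvK x)⁻¹ := by
  have iA := og_inv _ nodeA
  have iB := og_inv _ nodeB
  have iC := og_inv _ nodeC
  have iD := og_inv _ nodeD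
  have iE := og_inv _ nodeE
  have iF := og_inv _ nodeF
  interval_cases x
  · exact iA.symm
  · exact iB.symm
  · exact iC.symm
  · exact iD.symm
  · exact iE.symm
  · exact iF.symm
  all_goals (show (1 : OG) = 1⁻¹; rw [inv_one])

set_option maxRecDepth 100000 in
theorem rotM_ok : (List.range CM.nR).map (rotWordOf CM.rot) = allRotsOf relsM := by decide +kernel

set_option maxRecDepth 100000 in
theorem rotK_ok : (List.range CK.nR).map (rotWordOf CK.rot) = allRotsOf relsK := by decide +kernel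

theorem hypM : Hyp (⊥ : Subgroup OG) lvM CM.row CM.rot 8 CM.nR 0 CM.nN where
  hN := by decide
  hrow := fun u h => rowOf_ge CM.trie CM.nN u h
  hdp0 := CM.dp0
  hrot := rot_one_of lvM CM.rot relsM CM.nR relsM_one rotM_ok
  hsub := fun x hx => absurd hx (by omega)
  hic := lvM_ic
  hS := fun u hu x hx => (chkNode_spec CM.row CM.rot 8 CM.nR 0 u (CM.chk_nodes u hu)).2 x hx
  hQ := fun u hu => (chkNode_spec CM.row CM.rot 8 CM.nR 0 u (CM.chk_nodes u hu)).1

theorem hypK : Hyp Msub lvK CK.row CK.rot 8 CK.nR 4 CK.nN where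
  hN := by decide
  hrow := fun u h => rowOf_ge CK.trie CK.nN u h
  hdp0 := CK.dp0
  hrot := rot_one_of lvK CK.rot relsK CK.nR relsK_one rotK_ok
  hsub := fun x hx => Subgroup.subset_closure ⟨x, hx, lvM_eqK x hx⟩
  hic := lvK_ic
  hS := fun u hu x hx => (chkNode_spec CK.row CK.rot 8 CK.nR 4 u (CK.chk_nodes u hu)).2 x hx
  hQ := fun u hu => (chkNode_spec CK.row CK.rot 8 CK.nR 4 u (CK.chk_nodes u hu)).1

theorem lvM_all (x : ℕ) (hx : x < 8) : lvM x ∈ Subgroup.closure (lvM '' {x | x < 4}) := by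
  by_cases h : x < 4
  · exact Subgroup.subset_closure ⟨x, h, rfl⟩
  · have : lvM x = 1 := by
      interval_cases x <;> first | omega | rfl
    rw [this]; exact Subgroup.one_mem _

theorem lvK_all (x : ℕ) (hx : x < 8) : lvK x ∈ Subgroup.closure (lvK '' {x | x < 6}) := by
  by_cases h : x < 6
  · exact Subgroup.subset_closure ⟨x, h, rfl⟩
  · have : lvK x = 1 := by
      interval_cases x <;> first | omega | rfl
    rw [this]; exact Subgroup.one_mem _

/-- `⟨a, b, c, d⟩` is finite of order at most 672 -/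
theorem card_Msub : Finite Msub ∧ Nat.card Msub ≤ 672 := by
  obtain ⟨hf, hc⟩ := card_sub_le hypM CM.nC 4 1048575 (by decide) (by decide) (by norm_num) lvM_all
    (fun c hc x hx => chkFinG_spec CM.row 8 CM.nC 1048575 4 c (CM.chk_fin c hc) x hx)
  change Finite (Msub ⧸ (⊥ : Subgroup OG).subgroupOf Msub) at hf
  change Nat.card (Msub ⧸ (⊥ : Subgroup OG).subgroupOf Msub) ≤ 672 at hc
  rw [Subgroup.bot_subgroupOf] at hf hc
  have e : (Msub ⧸ (⊥ : Subgroup Msub)) ≃ Msub := (QuotientGroup.quotientBot).toEquiv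
  have hfin : Finite Msub := Finite.of_equiv _ e
  refine ⟨hfin, ?_⟩
  rw [← Nat.card_congr e]; exact hc

theorem Msub_le_Ksub : Msub ≤ Ksub := by
  unfold Msub Ksub
  rw [Subgroup.closure_le]
  rintro _ ⟨x, hx, rfl⟩
  have hx' : x < 4 := hx
  rw [lvM_eqK x hx']
  exact Subgroup.subset_closure ⟨x, by show x < 6; omega, rfl⟩

/-- `⟨a, …, f⟩` is finite of order at most 3753792 -/
theorem card_Ksub : Finite Ksub ∧ Nat.card Ksub ≤ 3753792 := by
  obtain ⟨hf, hc⟩ := card_sub_le hypK CK.nC 6 1048575 (by decide) (by decide) (by norm_num) lvK_all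
    (fun c hc x hx => chkFinG_spec CK.row 8 CK.nC 1048575 6 c (CK.chk_fin c hc) x hx)
  change Finite (Ksub ⧸ Msub.subgroupOf Ksub) at hf
  change Nat.card (Ksub ⧸ Msub.subgroupOf Ksub) ≤ 5586 at hc
  obtain ⟨hMf, hMc⟩ := card_Msub
  have e : Msub.subgroupOf Ksub ≃ Msub := (Subgroup.subgroupOfEquivOfLe Msub_le_Ksub).toEquiv
  have hSf : Finite (Msub.subgroupOf Ksub) := Finite.of_equiv _ e.symm
  have hSc : Nat.card (Msub.subgroupOf Ksub) ≤ 672 := by rw [Nat.card_congr e]; exact hMc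
  have hmul := Subgroup.card_eq_card_quotient_mul_card_subgroup (Msub.subgroupOf Ksub)
  have hpos1 : 0 < Nat.card (Ksub ⧸ Msub.subgroupOf Ksub) := Nat.card_pos
  have hpos2 : 0 < Nat.card (Msub.subgroupOf Ksub) := Nat.card_pos
  have hne : Nat.card Ksub ≠ 0 := by rw [hmul]; positivity
  refine ⟨Nat.finite_of_card_ne_zero hne, ?_⟩
  rw [hmul]
  calc Nat.card (Ksub ⧸ Msub.subgroupOf Ksub) * Nat.card (Msub.subgroupOf Ksub)
      ≤ 5586 * 672 := Nat.mul_le_mul hc hSc
    _ = 3753792 := by norm_num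

theorem onH_eq_Ksub : onH = Ksub := by
  unfold Ksub
  show (Subgroup.closure ({a, b, c, d, e, f} : Set (FreeGroup Gen))).map (PresentedGroup.mk onRels) = _
  rw [MonoidHom.map_closure]
  congr 1
  ext y
  constructor
  · rintro ⟨w, hw, rfl⟩
    simp only [Set.mem_insert_iff, Set.mem_singleton_iff] at hw
    rcases hw with rfl | rfl | rfl | rfl | rfl | rfl
    · exact ⟨0, by norm_num, rfl⟩
    · exact ⟨1, by norm_num, rfl⟩
    · exact ⟨2, by norm_num, rfl⟩
    · exact ⟨3, by norm_num, rfl⟩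
    · exact ⟨4, by norm_num, rfl⟩
    · exact ⟨5, by norm_num, rfl⟩
  · rintro ⟨x, hx, rfl⟩
    have hx' : x < 6 := hx
    interval_cases x
    · exact ⟨a, by simp, rfl⟩
    · exact ⟨b, by simp, rfl⟩
    · exact ⟨c, by simp, rfl⟩
    · exact ⟨d, by simp, rfl⟩
    · exact ⟨e, by simp, rfl⟩
    · exact ⟨f, by simp, rfl⟩

/-- `⟨a, …, f⟩` is finite of order at most 3753792 -/
theorem card_onH : Finite onH ∧ Nat.card onH ≤ 3753792 := by
  rw [onH_eq_Ksub]; exact card_Ksub

/-! ### the normal closure of `b c d g` -/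

/-- the element `b c d g`, of order dividing 5 -/
noncomputable def g5 : OG := og .b * og .c * og .d * og .g

theorem g5_pow : g5 ^ 5 = 1 := by
  have h := mk_rel (extra_mem (r := (b * c * d * g) ^ 5) (by simp [extra]))
  simp only [map_mul, map_pow] at h
  exact h

/-- relators of the quotient by the normal closure of `b c d g` -/
def relsQ : List (List ℕ) := relsA ++ [[6, 3, 2, 1]]

set_option maxRecDepth 100000 in
theorem rotQ_ok : (List.range CQ.nR).map (rotWordOf CQ.rot) = allRotsOf relsQ := by decide +kernel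

/-- letters in the quotient -/
noncomputable def lvQ (x : ℕ) : OG ⧸ Subgroup.normalClosure {g5} :=
  QuotientGroup.mk' (Subgroup.normalClosure {g5}) (lv x)

theorem relsQ_one : ∀ w ∈ relsQ, evr lvQ w = 1 := by
  intro w hw
  have e : evr lvQ w = QuotientGroup.mk' (Subgroup.normalClosure {g5}) (evr lv w) :=
    evr_map (QuotientGroup.mk' (Subgroup.normalClosure {g5})) lv w
  rw [e]
  unfold relsQ at hw
  rw [List.mem_append] at hw
  rcases hw with hw | hw
  · rw [relsA_one w hw, map_one]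
  · rw [List.mem_singleton] at hw
    rw [hw]
    have : evr lv [6, 3, 2, 1] = g5 := by simp [evr, lv, g5, mul_assoc]
    rw [this]
    exact (QuotientGroup.eq_one_iff _).mpr (Subgroup.subset_normalClosure (Set.mem_singleton _))

theorem hypQ : Hyp (⊥ : Subgroup (OG ⧸ Subgroup.normalClosure {g5})) lvQ CQ.row CQ.rot 8 CQ.nR 0 CQ.nN where
  hN := by decide
  hrow := fun u h => rowOf_ge CQ.trie CQ.nN u h
  hdp0 := CQ.dp0
  hrot := rot_one_of lvQ CQ.rot relsQ CQ.nR relsQ_one rotQ_ok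
  hsub := fun x hx => absurd hx (by omega)
  hic := fun x hx => by
    show QuotientGroup.mk' _ (lv (ic x)) = (QuotientGroup.mk' _ (lv x))⁻¹
    rw [lv_ic x hx, map_inv]
  hS := fun u hu x hx => (chkNode_spec CQ.row CQ.rot 8 CQ.nR 0 u (CQ.chk_nodes u hu)).2 x hx
  hQ := fun u hu => (chkNode_spec CQ.row CQ.rot 8 CQ.nR 0 u (CQ.chk_nodes u hu)).1

theorem lvQ_gen : Subgroup.closure (lvQ '' {x | x < 7}) = ⊤ := by
  have h1 : lvQ '' {x | x < 7} = (QuotientGroup.mk' (Subgroup.normalClosure {g5})) '' (lv '' {x | x < 7}) := by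
    rw [Set.image_image]; rfl
  rw [h1, ← MonoidHom.map_closure, lv_gen]
  exact Subgroup.map_top_of_surjective _ (QuotientGroup.mk'_surjective _)

/-- the normal closure of `b c d g` is the whole group -/
theorem normalClosure_g5 : Subgroup.normalClosure {g5} = (⊤ : Subgroup OG) := by
  obtain ⟨hf, hc⟩ := card_quotient_le hypQ CQ.nC 7 1048575 (by decide) (by decide) (by norm_num) lvQ_gen
    (fun c hc x hx => chkFinG_spec CQ.row 8 CQ.nC 1048575 7 c (CQ.chk_fin c hc) x hx)
  have hc1 : Nat.card ((OG ⧸ Subgroup.normalClosure {g5}) ⧸ (⊥ : Subgroup (OG ⧸ Subgroup.normalClosure {g5}))) ≤ 1 := hc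
  have e : ((OG ⧸ Subgroup.normalClosure {g5}) ⧸ (⊥ : Subgroup (OG ⧸ Subgroup.normalClosure {g5}))) ≃
      (OG ⧸ Subgroup.normalClosure {g5}) := (QuotientGroup.quotientBot).toEquiv
  have hfin : Finite (OG ⧸ Subgroup.normalClosure {g5}) := Finite.of_equiv _ e
  rw [Nat.card_congr e] at hc1
  have hsub : Subsingleton (OG ⧸ Subgroup.normalClosure {g5}) :=
    (Finite.card_le_one_iff_subsingleton).mp hc1
  exact QuotientGroup.subgroup_eq_top_of_subsingleton _ hsub

end Cfsg.Agent.Lib.Helper92.ON
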