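import Cfsg.Agent.Lib.Helper92.ON.SubData0

/-! Kernel checks: the images of the relators of `J₁` fix the point 17 (helper92) -/

set_option autoImplicit false

namespace Cfsg.Agent.Lib.Helper92.ON.Sub
open Cfsg.Agent.Lib.Helper92.VecPerm

set_option maxRecDepth 100000 in
theorem chkJ_0_17 : fixChk (relWJ 0) 17 = true := by decide +kernel

set_option maxRecDepth 100000 in
theorem chkJ_1_17 : fixChk (relWJ 1) 17 = true := by decide +kernel

set_option maxRecDepth 100000 in
theorem chkJ_2_17 : fixChk (relWJ 2) 17 = true := by decide +kernel

set_option maxRecDepth 100000 in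
theorem chkJ_3_17 : fixChk (relWJ 3) 17 = true := by decide +kernel

set_option maxRecDepth 100000 in
theorem chkJ_4_17 : fixChk (relWJ 4) 17 = true := by decide +kernel

set_option maxRecDepth 100000 in
theorem chkJ_5_17 : fixChk (relWJ 5) 17 = true := by decide +kernel

set_option maxRecDepth 100000 in
theorem chkJ_6_17 : fixChk (relWJ 6) 17 = true := by decide +kernel

set_option maxRecDepth 100000 in
theorem chkJ_7_17 : fixChk (relWJ 7) 17 = true := by decide +kernel

set_option maxRecDepth 100000 in
theorem chkJ_8_17 : fixChk (relWJ 8) 17 = true := by decide +kernel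

set_option maxRecDepth 100000 in
theorem chkJ_9_17 : fixChk (relWJ 9) 17 = true := by decide +kernel

set_option maxRecDepth 100000 in
theorem chkJ_10_17 : fixChk (relWJ 10) 17 = true := by decide +kernel

set_option maxRecDepth 100000 in
theorem chkJ_11_17 : fixChk (relWJ 11) 17 = true := by decide +kernel

set_option maxRecDepth 100000 in
theorem chkJ_12_17 : fixChk (relWJ 12) 17 = true := by decide +kernel

set_option maxRecDepth 100000 in
theorem chkJ_13_17 : fixChk (relWJ 13) 17 = true := by decide +kernel

set_option maxRecDepth 100000 in
theorem chkJ_14_17 : fixChk (relWJ 14) 17 = true := by decide +kernel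

set_option maxRecDepth 100000 in
theorem chkJ_15_17 : fixChk (relWJ 15) 17 = true := by decide +kernel

set_option maxRecDepth 100000 in
theorem chkJ_16_17 : fixChk (relWJ 16) 17 = true := by decide +kernel

set_option maxRecDepth 100000 in
theorem chkJ_17_17 : fixChk (relWJ 17) 17 = true := by decide +kernel


end Cfsg.Agent.Lib.Helper92.ON.Sub
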