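import Cfsg.Agent.Lib.Helper92.ON.SubData0

/-! Kernel checks: the images of the relators of `M₁₁` fix the base points (helper92) -/

set_option autoImplicit false

namespace Cfsg.Agent.Lib.Helper92.ON.Sub
open Cfsg.Agent.Lib.Helper92.VecPerm

set_option maxRecDepth 100000 in
theorem chkM_0_0 : fixChk (relWM 0) 0 = true := by decide +kernel

set_option maxRecDepth 100000 in
theorem chkM_1_0 : fixChk (relWM 1) 0 = true := by decide +kernel

set_option maxRecDepth 100000 in
theorem chkM_2_0 : fixChk (relWM 2) 0 = true := by decide +kernel

set_option maxRecDepth 100000 in
theorem chkM_3_0 : fixChk (relWM 3) 0 = true := by decide +kernel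

set_option maxRecDepth 100000 in
theorem chkM_4_0 : fixChk (relWM 4) 0 = true := by decide +kernel

set_option maxRecDepth 100000 in
theorem chkM_5_0 : fixChk (relWM 5) 0 = true := by decide +kernel

set_option maxRecDepth 100000 in
theorem chkM_6_0 : fixChk (relWM 6) 0 = true := by decide +kernel

set_option maxRecDepth 100000 in
theorem chkM_7_0 : fixChk (relWM 7) 0 = true := by decide +kernel

set_option maxRecDepth 100000 in
theorem chkM_8_0 : fixChk (relWM 8) 0 = true := by decide +kernel

set_option maxRecDepth 100000 in
theorem chkM_9_0 : fixChk (relWM 9) 0 = true := by decide +kernel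

set_option maxRecDepth 100000 in
theorem chkM_10_0 : fixChk (relWM 10) 0 = true := by decide +kernel

set_option maxRecDepth 100000 in
theorem chkM_11_0 : fixChk (relWM 11) 0 = true := by decide +kernel

set_option maxRecDepth 100000 in
theorem chkM_12_0 : fixChk (relWM 12) 0 = true := by decide +kernel

set_option maxRecDepth 100000 in
theorem chkM_13_0 : fixChk (relWM 13) 0 = true := by decide +kernel

set_option maxRecDepth 100000 in
theorem chkM_14_0 : fixChk (relWM 14) 0 = true := by decide +kernel

set_option maxRecDepth 100000 in
theorem chkM_15_0 : fixChk (relWM 15) 0 = true := by decide +kernel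

set_option maxRecDepth 100000 in
theorem chkM_16_0 : fixChk (relWM 16) 0 = true := by decide +kernel

set_option maxRecDepth 100000 in
theorem chkM_17_0 : fixChk (relWM 17) 0 = true := by decide +kernel

set_option maxRecDepth 100000 in
theorem chkM_0_17 : fixChk (relWM 0) 17 = true := by decide +kernel

set_option maxRecDepth 100000 in
theorem chkM_1_17 : fixChk (relWM 1) 17 = true := by decide +kernel

set_option maxRecDepth 100000 in
theorem chkM_2_17 : fixChk (relWM 2) 17 = true := by decide +kernel

set_option maxRecDepth 100000 in
theorem chkM_3_17 : fixChk (relWM 3) 17 = true := by decide +kernel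

set_option maxRecDepth 100000 in
theorem chkM_4_17 : fixChk (relWM 4) 17 = true := by decide +kernel

set_option maxRecDepth 100000 in
theorem chkM_5_17 : fixChk (relWM 5) 17 = true := by decide +kernel

set_option maxRecDepth 100000 in
theorem chkM_6_17 : fixChk (relWM 6) 17 = true := by decide +kernel

set_option maxRecDepth 100000 in
theorem chkM_7_17 : fixChk (relWM 7) 17 = true := by decide +kernel

set_option maxRecDepth 100000 in
theorem chkM_8_17 : fixChk (relWM 8) 17 = true := by decide +kernel

set_option maxRecDepth 100000 in
theorem chkM_9_17 : fixChk (relWM 9) 17 = true := by decide +kernel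

set_option maxRecDepth 100000 in
theorem chkM_10_17 : fixChk (relWM 10) 17 = true := by decide +kernel

set_option maxRecDepth 100000 in
theorem chkM_11_17 : fixChk (relWM 11) 17 = true := by decide +kernel

set_option maxRecDepth 100000 in
theorem chkM_12_17 : fixChk (relWM 12) 17 = true := by decide +kernel

set_option maxRecDepth 100000 in
theorem chkM_13_17 : fixChk (relWM 13) 17 = true := by decide +kernel

set_option maxRecDepth 100000 in
theorem chkM_14_17 : fixChk (relWM 14) 17 = true := by decide +kernel

set_option maxRecDepth 100000 in
theorem chkM_15_17 : fixChk (relWM 15) 17 = true := by decide +kernel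

set_option maxRecDepth 100000 in
theorem chkM_16_17 : fixChk (relWM 16) 17 = true := by decide +kernel

set_option maxRecDepth 100000 in
theorem chkM_17_17 : fixChk (relWM 17) 17 = true := by decide +kernel

set_option maxRecDepth 100000 in
theorem chkM_0_74 : fixChk (relWM 0) 74 = true := by decide +kernel

set_option maxRecDepth 100000 in
theorem chkM_1_74 : fixChk (relWM 1) 74 = true := by decide +kernel

set_option maxRecDepth 100000 in
theorem chkM_2_74 : fixChk (relWM 2) 74 = true := by decide +kernel

set_option maxRecDepth 100000 in
theorem chkM_3_74 : fixChk (relWM 3) 74 = true := by decide +kernel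

set_option maxRecDepth 100000 in
theorem chkM_4_74 : fixChk (relWM 4) 74 = true := by decide +kernel

set_option maxRecDepth 100000 in
theorem chkM_5_74 : fixChk (relWM 5) 74 = true := by decide +kernel

set_option maxRecDepth 100000 in
theorem chkM_6_74 : fixChk (relWM 6) 74 = true := by decide +kernel

set_option maxRecDepth 100000 in
theorem chkM_7_74 : fixChk (relWM 7) 74 = true := by decide +kernel

set_option maxRecDepth 100000 in
theorem chkM_8_74 : fixChk (relWM 8) 74 = true := by decide +kernel

set_option maxRecDepth 100000 in
theorem chkM_9_74 : fixChk (relWM 9) 74 = true := by decide +kernel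

set_option maxRecDepth 100000 in
theorem chkM_10_74 : fixChk (relWM 10) 74 = true := by decide +kernel

set_option maxRecDepth 100000 in
theorem chkM_11_74 : fixChk (relWM 11) 74 = true := by decide +kernel

set_option maxRecDepth 100000 in
theorem chkM_12_74 : fixChk (relWM 12) 74 = true := by decide +kernel

set_option maxRecDepth 100000 in
theorem chkM_13_74 : fixChk (relWM 13) 74 = true := by decide +kernel

set_option maxRecDepth 100000 in
theorem chkM_14_74 : fixChk (relWM 14) 74 = true := by decide +kernel

set_option maxRecDepth 100000 in
theorem chkM_15_74 : fixChk (relWM 15) 74 = true := by decide +kernel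

set_option maxRecDepth 100000 in
theorem chkM_16_74 : fixChk (relWM 16) 74 = true := by decide +kernel

set_option maxRecDepth 100000 in
theorem chkM_17_74 : fixChk (relWM 17) 74 = true := by decide +kernel


end Cfsg.Agent.Lib.Helper92.ON.Sub
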