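import Cfsg.Agent.Lib.Helper92.ON.SubData0

/-! Kernel checks: the network of letter 7 is the permutation of its word (helper92) -/

set_option autoImplicit false

namespace Cfsg.Agent.Lib.Helper92.ON.Sub
open Cfsg.Agent.Lib.Helper92.VecPerm

set_option maxRecDepth 100000 in
theorem chkYJ_0 : planeChk WYJ [7] 0 = true := by decide +kernel

set_option maxRecDepth 100000 in
theorem chkYJ_1 : planeChk WYJ [7] 1 = true := by decide +kernel

set_option maxRecDepth 100000 in
theorem chkYJ_2 : planeChk WYJ [7] 2 = true := by decide +kernel

set_option maxRecDepth 100000 in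
theorem chkYJ_3 : planeChk WYJ [7] 3 = true := by decide +kernel

set_option maxRecDepth 100000 in
theorem chkYJ_4 : planeChk WYJ [7] 4 = true := by decide +kernel

set_option maxRecDepth 100000 in
theorem chkYJ_5 : planeChk WYJ [7] 5 = true := by decide +kernel

set_option maxRecDepth 100000 in
theorem chkYJ_6 : planeChk WYJ [7] 6 = true := by decide +kernel

set_option maxRecDepth 100000 in
theorem chkYJ_7 : planeChk WYJ [7] 7 = true := by decide +kernel

set_option maxRecDepth 100000 in
theorem chkYJ_8 : planeChk WYJ [7] 8 = true := by decide +kernel

set_option maxRecDepth 100000 in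
theorem chkYJ_9 : planeChk WYJ [7] 9 = true := by decide +kernel

set_option maxRecDepth 100000 in
theorem chkYJ_10 : planeChk WYJ [7] 10 = true := by decide +kernel

set_option maxRecDepth 100000 in
theorem chkYJ_11 : planeChk WYJ [7] 11 = true := by decide +kernel

set_option maxRecDepth 100000 in
theorem chkYJ_12 : planeChk WYJ [7] 12 = true := by decide +kernel

set_option maxRecDepth 100000 in
theorem chkYJ_13 : planeChk WYJ [7] 13 = true := by decide +kernel

set_option maxRecDepth 100000 in
theorem chkYJ_14 : planeChk WYJ [7] 14 = true := by decide +kernel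

set_option maxRecDepth 100000 in
theorem chkYJ_15 : planeChk WYJ [7] 15 = true := by decide +kernel

set_option maxRecDepth 100000 in
theorem chkYJ_16 : planeChk WYJ [7] 16 = true := by decide +kernel


end Cfsg.Agent.Lib.Helper92.ON.Sub
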