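import Cfsg.Agent.Lib.Helper92.ON.SubData0

/-! Kernel checks: the network of letter 8 is the permutation of its word (helper92) -/

set_option autoImplicit false

namespace Cfsg.Agent.Lib.Helper92.ON.Sub
open Cfsg.Agent.Lib.Helper92.VecPerm

set_option maxRecDepth 100000 in
theorem chkYM_0 : planeChk WYM [8] 0 = true := by decide +kernel

set_option maxRecDepth 100000 in
theorem chkYM_1 : planeChk WYM [8] 1 = true := by decide +kernel

set_option maxRecDepth 100000 in
theorem chkYM_2 : planeChk WYM [8] 2 = true := by decide +kernel

set_option maxRecDepth 100000 in
theorem chkYM_3 : planeChk WYM [8] 3 = true := by decide +kernel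

set_option maxRecDepth 100000 in
theorem chkYM_4 : planeChk WYM [8] 4 = true := by decide +kernel

set_option maxRecDepth 100000 in
theorem chkYM_5 : planeChk WYM [8] 5 = true := by decide +kernel

set_option maxRecDepth 100000 in
theorem chkYM_6 : planeChk WYM [8] 6 = true := by decide +kernel

set_option maxRecDepth 100000 in
theorem chkYM_7 : planeChk WYM [8] 7 = true := by decide +kernel

set_option maxRecDepth 100000 in
theorem chkYM_8 : planeChk WYM [8] 8 = true := by decide +kernel

set_option maxRecDepth 100000 in
theorem chkYM_9 : planeChk WYM [8] 9 = true := by decide +kernel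

set_option maxRecDepth 100000 in
theorem chkYM_10 : planeChk WYM [8] 10 = true := by decide +kernel

set_option maxRecDepth 100000 in
theorem chkYM_11 : planeChk WYM [8] 11 = true := by decide +kernel

set_option maxRecDepth 100000 in
theorem chkYM_12 : planeChk WYM [8] 12 = true := by decide +kernel

set_option maxRecDepth 100000 in
theorem chkYM_13 : planeChk WYM [8] 13 = true := by decide +kernel

set_option maxRecDepth 100000 in
theorem chkYM_14 : planeChk WYM [8] 14 = true := by decide +kernel

set_option maxRecDepth 100000 in
theorem chkYM_15 : planeChk WYM [8] 15 = true := by decide +kernel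

set_option maxRecDepth 100000 in
theorem chkYM_16 : planeChk WYM [8] 16 = true := by decide +kernel


end Cfsg.Agent.Lib.Helper92.ON.Sub
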