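import Cfsg.Agent.Lib.Helper92.ON.SubChkYJ
import Cfsg.Agent.Lib.Helper92.ON.SubChkYM
import Cfsg.Agent.Lib.Helper92.ON.SubChkJ0
import Cfsg.Agent.Lib.Helper92.ON.SubChkJ1
import Cfsg.Agent.Lib.Helper92.ON.SubChkJ2
import Cfsg.Agent.Lib.Helper92.ON.SubChkM

/-!
# Subgroups `J₁` and `M₁₁` of the O'Nan group on 122760 points: the checks assembled (helper92)
-/

set_option autoImplicit false

namespace Cfsg.Agent.Lib.Helper92.ON.Sub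
open Cfsg.Agent.Lib.Helper92.VecPerm

theorem chk_YJ : eqCheck nets2 17 WYJ [7] = true := by
  unfold eqCheck
  rw [List.all_eq_true]
  intro b hb
  rw [List.mem_range] at hb
  show planeChk WYJ [7] b = true
  interval_cases b
  · exact chkYJ_0
  · exact chkYJ_1
  · exact chkYJ_2
  · exact chkYJ_3
  · exact chkYJ_4
  · exact chkYJ_5
  · exact chkYJ_6
  · exact chkYJ_7
  · exact chkYJ_8
  · exact chkYJ_9
  · exact chkYJ_10
  · exact chkYJ_11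
  · exact chkYJ_12
  · exact chkYJ_13
  · exact chkYJ_14
  · exact chkYJ_15
  · exact chkYJ_16

theorem chk_YM : eqCheck nets2 17 WYM [8] = true := by
  unfold eqCheck
  rw [List.all_eq_true]
  intro b hb
  rw [List.mem_range] at hb
  show planeChk WYM [8] b = true
  interval_cases b
  · exact chkYM_0
  · exact chkYM_1
  · exact chkYM_2
  · exact chkYM_3
  · exact chkYM_4
  · exact chkYM_5
  · exact chkYM_6
  · exact chkYM_7
  · exact chkYM_8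
  · exact chkYM_9
  · exact chkYM_10
  · exact chkYM_11
  · exact chkYM_12
  · exact chkYM_13
  · exact chkYM_14
  · exact chkYM_15
  · exact chkYM_16

theorem chk_relJ (k : ℕ) (hk : k < 18) : fixChk (relWJ k) 0 = true ∧ fixChk (relWJ k) 17 = true ∧
    fixChk (relWJ k) 74 = true := by
  interval_cases k
  · exact ⟨chkJ_0_0, chkJ_0_17, chkJ_0_74⟩
  · exact ⟨chkJ_1_0, chkJ_1_17, chkJ_1_74⟩
  · exact ⟨chkJ_2_0, chkJ_2_17, chkJ_2_74⟩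
  · exact ⟨chkJ_3_0, chkJ_3_17, chkJ_3_74⟩
  · exact ⟨chkJ_4_0, chkJ_4_17, chkJ_4_74⟩
  · exact ⟨chkJ_5_0, chkJ_5_17, chkJ_5_74⟩
  · exact ⟨chkJ_6_0, chkJ_6_17, chkJ_6_74⟩
  · exact ⟨chkJ_7_0, chkJ_7_17, chkJ_7_74⟩
  · exact ⟨chkJ_8_0, chkJ_8_17, chkJ_8_74⟩
  · exact ⟨chkJ_9_0, chkJ_9_17, chkJ_9_74⟩
  · exact ⟨chkJ_10_0, chkJ_10_17, chkJ_10_74⟩
  · exact ⟨chkJ_11_0, chkJ_11_17, chkJ_11_74⟩
  · exact ⟨chkJ_12_0, chkJ_12_17, chkJ_12_74⟩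
  · exact ⟨chkJ_13_0, chkJ_13_17, chkJ_13_74⟩
  · exact ⟨chkJ_14_0, chkJ_14_17, chkJ_14_74⟩
  · exact ⟨chkJ_15_0, chkJ_15_17, chkJ_15_74⟩
  · exact ⟨chkJ_16_0, chkJ_16_17, chkJ_16_74⟩
  · exact ⟨chkJ_17_0, chkJ_17_17, chkJ_17_74⟩

theorem chk_relM (k : ℕ) (hk : k < 18) : fixChk (relWM k) 0 = true ∧ fixChk (relWM k) 17 = true ∧
    fixChk (relWM k) 74 = true := by
  interval_cases k
  · exact ⟨chkM_0_0, chkM_0_17, chkM_0_74⟩
  · exact ⟨chkM_1_0, chkM_1_17, chkM_1_74⟩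
  · exact ⟨chkM_2_0, chkM_2_17, chkM_2_74⟩
  · exact ⟨chkM_3_0, chkM_3_17, chkM_3_74⟩
  · exact ⟨chkM_4_0, chkM_4_17, chkM_4_74⟩
  · exact ⟨chkM_5_0, chkM_5_17, chkM_5_74⟩
  · exact ⟨chkM_6_0, chkM_6_17, chkM_6_74⟩
  · exact ⟨chkM_7_0, chkM_7_17, chkM_7_74⟩
  · exact ⟨chkM_8_0, chkM_8_17, chkM_8_74⟩
  · exact ⟨chkM_9_0, chkM_9_17, chkM_9_74⟩
  · exact ⟨chkM_10_0, chkM_10_17, chkM_10_74⟩
  · exact ⟨chkM_11_0, chkM_11_17, chkM_11_74⟩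
  · exact ⟨chkM_12_0, chkM_12_17, chkM_12_74⟩
  · exact ⟨chkM_13_0, chkM_13_17, chkM_13_74⟩
  · exact ⟨chkM_14_0, chkM_14_17, chkM_14_74⟩
  · exact ⟨chkM_15_0, chkM_15_17, chkM_15_74⟩
  · exact ⟨chkM_16_0, chkM_16_17, chkM_16_74⟩
  · exact ⟨chkM_17_0, chkM_17_17, chkM_17_74⟩

set_option maxRecDepth 100000 in
theorem chk_movedJ : (wordV nets2 (imgJ 0) 1).testBit 0 = false := by decide +kernel

set_option maxRecDepth 100000 in
theorem chk_movedM : (wordV nets2 (imgM 0) 1).testBit 0 = false := by decide +kernel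

theorem relJ_idx : ∀ w ∈ Cfsg.Agent.Lib.Helper92.PJ.rels, ∃ k < 18, w = Cfsg.Agent.Lib.Helper92.PJ.rels.getD k [] := by
  decide

theorem relM_idx : ∀ w ∈ Cfsg.Agent.Lib.Helper92.PM.rels, ∃ k < 18, w = Cfsg.Agent.Lib.Helper92.PM.rels.getD k [] := by
  decide

end Cfsg.Agent.Lib.Helper92.ON.Sub
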