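import Cfsg.Agent.Lib.Helper92.ON.ActA
import Cfsg.Agent.Lib.Helper92.ON.NetYJ
import Cfsg.Agent.Lib.Helper92.ON.NetYM
import Cfsg.Agent.Lib.Helper92.PJ.Act
import Cfsg.Agent.Lib.Helper92.PM.Act
import Cfsg.Agent.Lib.Helper92.VecPerm4

/-!
# Subgroups `J₁` and `M₁₁` of the O'Nan group on 122760 points: data (helper92)

Letters `0, …, 6` are the generators `a, …, f, g` of the presentation; letter `7` is an element of order 3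
and letter `8` an element of order 4, given as words.
-/

set_option autoImplicit false

namespace Cfsg.Agent.Lib.Helper92.ON.Sub
open Cfsg.Agent.Lib.Helper92.VecPerm
open Cfsg.Agent.Lib.Helper92.ON

/-- the networks of the letters `0, …, 8` -/
def nets2 (x : ℕ) : List (ℕ × ℕ) :=
  match x with
  | 0 => netA | 1 => netB | 2 => netC | 3 => netD | 4 => netE | 5 => netF | 6 => netG
  | 7 => netYJ | 8 => netYM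
  | _ => []

set_option maxRecDepth 100000 in
theorem nets2OKb : (List.range 9).all (fun x => netOKb 131072 (nets2 x)) = true := by decide +kernel

theorem nets2OK (x : ℕ) : NetOK 131072 (nets2 x) := by
  by_cases hx : x < 9
  · have := nets2OKb
    rw [List.all_eq_true] at this
    exact netOK_of_check (this x (List.mem_range.mpr hx))
  · have : nets2 x = [] := by
      unfold nets2
      split <;> first | omega | rfl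
    rw [this]; intro st hst; simp at hst

/-- the word of letter 7 -/
def WYJ : List ℕ := [1, 2, 0, 1, 5, 6, 6, 6, 1, 6, 2, 6, 0, 6, 6, 2, 3, 1, 0, 6, 6, 6, 2, 1, 5, 6, 6, 6, 2, 3, 5, 3, 4, 6, 6, 6, 2, 4, 5, 0, 1, 2, 0, 6, 5, 4, 5, 0, 5, 0, 4, 3, 2, 1, 6, 5, 4, 1, 5, 1, 4, 1, 5, 3, 2, 6, 3, 1, 3, 5, 3, 1, 6, 6, 6, 0, 6, 5, 1, 0, 2, 0, 1, 2, 0, 1, 5, 6, 6, 6, 0, 6, 1, 3, 5, 3, 1, 3, 6, 6, 6, 2, 3, 5, 1, 4, 1, 5, 1, 4, 5, 6, 6, 6, 1, 2, 3, 4, 0, 5, 0, 5, 4, 5, 6, 6, 6, 0, 2, 1, 0, 5, 4, 2, 6, 4, 3, 5, 3, 2, 6, 5, 1, 2, 6, 0, 1, 3, 2, 6, 6, 0, 6, 6, 6, 2, 6, 6, 6, 1, 6, 5, 1, 0, 2, 1]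

/-- the word of letter 8 -/
def WYM : List ℕ := [2, 5, 6, 4, 2, 6, 6, 2, 6, 1, 6, 5, 6, 1, 6, 6, 6, 4, 2, 6, 1, 2, 4, 6, 1, 0, 6, 6, 6, 3, 2, 0, 6, 6, 6, 3, 5, 0, 1, 2, 3, 6, 5, 4, 0, 2, 0, 3, 0, 6, 6, 6, 2, 3, 6, 6, 6, 4, 0, 6, 6, 6, 5, 0, 6, 0, 6, 6, 6, 5, 4, 6, 1, 0, 1, 6, 0, 6, 6, 6, 3, 5, 6, 6, 2, 3, 2, 3, 6, 6, 5, 3, 6, 0, 6, 6, 6, 1, 0, 1, 6, 6, 6, 4, 5, 6, 0, 6, 6, 6, 0, 5, 6, 0, 4, 6, 3, 2, 6, 0, 3, 0, 2, 0, 4, 5, 6, 6, 6, 3, 2, 1, 0, 5, 3, 6, 0, 2, 3, 6, 0, 1, 6, 6, 6, 4, 2, 1, 6, 6, 6, 2, 4, 6, 1, 6, 6, 6, 5, 6, 6, 6, 1, 6, 6, 6, 2, 6, 6, 2, 4, 6, 6, 6, 5, 2]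

/-- images of the five involutions generating `J₁` (words in the letters 0 and 7) -/
def imgJ : ℕ → List ℕ
  | 0 => [7, 7, 0, 7, 7, 0, 7, 0, 7, 7, 0, 7, 0, 7, 7, 0, 7, 0, 7, 7, 0, 7, 7, 0, 7, 0, 7, 7, 0, 7, 0, 7, 0, 7, 7, 0, 7, 0, 7, 7, 0, 7, 0, 7, 0, 7, 7, 0, 7, 0]
  | 1 => [0, 7, 0, 7, 7, 0, 7, 7, 0, 7, 0, 7, 7, 0, 7, 0, 7, 7, 0, 7, 0, 7, 0, 7, 7, 0]
  | 2 => [0, 7, 7, 0, 7, 7, 0, 7, 0, 7, 7, 0, 7, 0, 7, 0]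
  | 3 => [7, 0, 7, 0, 7, 7, 0, 7, 0, 7, 7, 0, 7, 0, 7, 7, 0, 7, 0, 7, 7, 0, 7, 0, 7, 7, 0, 7, 7]
  | 4 => [7, 0, 7, 0, 7, 7, 0, 7, 7, 0, 7, 0, 7, 7, 0, 7, 0, 7, 7, 0, 7, 7, 0, 7, 0, 7, 0, 7, 7, 0, 7, 7, 0, 7, 0, 7, 0, 7, 7, 0, 7, 0, 7, 7, 0, 7, 0, 7, 0, 7, 7, 0, 7, 7]
  | _ => []

/-- images of the five involutions generating `M₁₁` (words in the letters 0 and 8) -/
def imgM : ℕ → List ℕ
  | 0 => [8, 0, 8, 8, 8]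
  | 1 => [0, 8, 8, 0]
  | 2 => [8, 0, 8, 8, 0, 8, 8, 0, 8]
  | 3 => [0, 8, 0, 8, 8, 0, 8, 8, 0, 8, 0]
  | 4 => [0, 8, 0, 8, 8, 8, 0]
  | _ => []

/-- the image of the `k`-th relator of `J₁` -/
def relWJ (k : ℕ) : List ℕ := (((Cfsg.Agent.Lib.Helper92.PJ.rels.getD k []).reverse.map imgJ).flatten)

/-- the image of the `k`-th relator of `M₁₁` -/
def relWM (k : ℕ) : List ℕ := (((Cfsg.Agent.Lib.Helper92.PM.rels.getD k []).reverse.map imgM).flatten)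

/-- the word `w` fixes the point `pt` -/
noncomputable def fixChk (w : List ℕ) (pt : ℕ) : Bool := Nat.beq (wordV nets2 w (2 ^ pt)) (2 ^ pt)

/-- the words `u`, `v` agree on the bit-plane `b` -/
noncomputable def planeChk (u v : List ℕ) (b : ℕ) : Bool :=
  Nat.beq (wordV nets2 u (idp 17 b)) (wordV nets2 v (idp 17 b))

end Cfsg.Agent.Lib.Helper92.ON.Sub
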