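import Cfsg.Agent.Lib.Helper92.ON.SubData
import Cfsg.Agent.Lib.Helper92.ON.Order
import Cfsg.Agent.Lib.Helper92.PJ.Order
import Cfsg.Agent.Lib.Helper92.PM.Order
import Cfsg.Prelude.Def_Sporadic

/-!
# The O'Nan group on 122760 points, with subgroups `J₁` and `M₁₁` (helper92)

The presented Janko group `J₁` and Mathieu group `M₁₁` (on five involutions each) map into the
presented O'Nan group; the relators are checked on the three base points of the faithful action on
122760 points, and simplicity makes the maps injective.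
-/

set_option autoImplicit false

namespace Cfsg.Agent.Lib.Helper92.ON.Sub
open Cfsg.Agent.Lib.Helper92.VecPerm
open Cfsg.Agent.Lib.Helper92.TCert
open Cfsg.Agent.Lib.Helper92.PresGen
open Cfsg.Agent.Lib.Helper92.ON
open Cfsg.Agent.Lib.Helper92

theorem nets2_eq (x : ℕ) (hx : x < 7) : nets2 x = nets x := by interval_cases x <;> rfl

/-- the permutation of letter `x` -/
noncomputable def gp2 (x : ℕ) : Equiv.Perm ℕ := netPerm (nets2 x) (nets2OK x)

theorem gp2_eq (x : ℕ) (hx : x < 7) : gp2 x = gp x := by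
  apply Equiv.ext
  intro i
  show netP (nets2 x) i = netP (nets x) i
  rw [nets2_eq x hx]

/-- value of a word in the letters `0, …, 6` -/
noncomputable def evW (w : List ℕ) : OG := (w.map lv).prod

theorem phi_evW (w : List ℕ) (hw : ∀ x ∈ w, x < 7) : phi (evW w) = wordPerm nets2OK w := by
  induction w with
  | nil => simp [evW, wordPerm]
  | cons x w ih =>
    have h1 : evW (x :: w) = lv x * evW w := by simp [evW]
    have h2 : wordPerm nets2OK (x :: w) = gp2 x * wordPerm nets2OK w := by
      simp [wordPerm, gp2]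
    rw [h1, h2, map_mul, phi_lv x (hw x List.mem_cons_self),
      ih (fun y hy => hw y (List.mem_cons_of_mem _ hy)), gp2_eq x (hw x List.mem_cons_self)]

/-- the element of order 3 -/
noncomputable def yJ : OG := evW WYJ
/-- the element of order 4 -/
noncomputable def yM : OG := evW WYM

set_option maxRecDepth 100000 in
theorem WYJ_lt : ∀ x ∈ WYJ, x < 7 := by decide +kernel
set_option maxRecDepth 100000 in
theorem WYM_lt : ∀ x ∈ WYM, x < 7 := by decide +kernel

theorem phi_yJ : phi yJ = gp2 7 := by
  unfold yJ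
  rw [phi_evW WYJ WYJ_lt, wordPerm_eq_of_check nets2OK (by norm_num) chk_YJ]
  simp [wordPerm, gp2]

theorem phi_yM : phi yM = gp2 8 := by
  unfold yM
  rw [phi_evW WYM WYM_lt, wordPerm_eq_of_check nets2OK (by norm_num) chk_YM]
  simp [wordPerm, gp2]

/-- the letters `0, …, 8` in the group -/
noncomputable def lv2 (x : ℕ) : OG :=
  if x < 7 then lv x else if x = 7 then yJ else if x = 8 then yM else 1

theorem phi_lv2 (x : ℕ) (hx : x < 9) : phi (lv2 x) = gp2 x := by
  unfold lv2
  by_cases h7 : x < 7
  · rw [if_pos h7, phi_lv x h7, gp2_eq x h7]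
  · rw [if_neg h7]
    by_cases h : x = 7
    · rw [if_pos h, h]; exact phi_yJ
    · rw [if_neg h]
      have h8 : x = 8 := by omega
      rw [if_pos h8, h8]; exact phi_yM

/-- value of a word in the letters `0, …, 8` -/
noncomputable def evW2 (w : List ℕ) : OG := (w.map lv2).prod

theorem phi_evW2 (w : List ℕ) (hw : ∀ x ∈ w, x < 9) : phi (evW2 w) = wordPerm nets2OK w := by
  induction w with
  | nil => simp [evW2, wordPerm]
  | cons x w ih =>
    have h1 : evW2 (x :: w) = lv2 x * evW2 w := by simp [evW2]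
    have h2 : wordPerm nets2OK (x :: w) = gp2 x * wordPerm nets2OK w := by
      simp [wordPerm, gp2]
    rw [h1, h2, map_mul, phi_lv2 x (hw x List.mem_cons_self),
      ih (fun y hy => hw y (List.mem_cons_of_mem _ hy))]

theorem evW2_append (u v : List ℕ) : evW2 (u ++ v) = evW2 u * evW2 v := by simp [evW2]

theorem evW2_flatten (ws : List (List ℕ)) : evW2 ws.flatten = (ws.map evW2).prod := by
  induction ws with
  | nil => simp [evW2]
  | cons w ws ih => rw [List.flatten_cons, evW2_append, ih]; simp

/-- a word fixing the three base points is trivial -/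
theorem evW2_eq_one (w : List ℕ) (hw : ∀ x ∈ w, x < 9) (h0 : fixChk w 0 = true)
    (h17 : fixChk w 17 = true) (h74 : fixChk w 74 = true) : evW2 w = 1 := by
  have key : ∀ s, fixChk w s = true → phi (evW2 w) s = s := by
    intro s hs
    rw [phi_evW2 w hw, wordPerm_apply]
    exact fixW_of_check nets2OK w s hs
  exact card_and_faithful.2 (evW2 w) (Fin.ext (key 0 h0)) (Fin.ext (key 17 h17)) (Fin.ext (key 74 h74))

theorem imgJ_lt (x : ℕ) : ∀ y ∈ imgJ x, y < 9 := by
  by_cases hx : x < 5
  · interval_cases x <;> decide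
  · have : imgJ x = [] := by
      unfold imgJ
      split <;> first | omega | rfl
    rw [this]; intro y hy; simp at hy

theorem imgM_lt (x : ℕ) : ∀ y ∈ imgM x, y < 9 := by
  by_cases hx : x < 5
  · interval_cases x <;> decide
  · have : imgM x = [] := by
      unfold imgM
      split <;> first | omega | rfl
    rw [this]; intro y hy; simp at hy

theorem relWJ_lt (k : ℕ) : ∀ y ∈ relWJ k, y < 9 := by
  intro y hy
  unfold relWJ at hy
  rw [List.mem_flatten] at hy
  obtain ⟨l, hl, hyl⟩ := hy
  rw [List.mem_map] at hl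
  obtain ⟨x, _, rfl⟩ := hl
  exact imgJ_lt x y hyl

theorem relWM_lt (k : ℕ) : ∀ y ∈ relWM k, y < 9 := by
  intro y hy
  unfold relWM at hy
  rw [List.mem_flatten] at hy
  obtain ⟨l, hl, hyl⟩ := hy
  rw [List.mem_map] at hl
  obtain ⟨x, _, rfl⟩ := hl
  exact imgM_lt x y hyl

/-! ### the Janko group -/

/-- images of the five involutions -/
noncomputable def fJ (i : Fin 5) : OG := evW2 (imgJ i.val)

theorem lift_fl_J (x : ℕ) (hx : x < 5) : FreeGroup.lift fJ (PJ.fl x) = evW2 (imgJ x) := by
  unfold PJ.fl; rw [dif_pos hx, FreeGroup.lift_apply_of]; rfl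

theorem lift_relJ (r : FreeGroup (Fin 5)) (hr : r ∈ PJ.relSet) : FreeGroup.lift fJ r = 1 := by
  obtain ⟨w, hw, rfl⟩ := hr
  rw [← evr_map (FreeGroup.lift fJ) PJ.fl w,
    evr_congr _ (fun x => evW2 (imgJ x)) w (fun x hx => lift_fl_J x (PJ.rels_lt w hw x hx)), evr_eq_prod]
  obtain ⟨k, hk, rfl⟩ := relJ_idx w hw
  have e : ((PJ.rels.getD k []).reverse.map (fun x => evW2 (imgJ x))).prod = evW2 (relWJ k) := by
    unfold relWJ; rw [evW2_flatten, List.map_map]; rfl
  rw [e]
  obtain ⟨h0, h17, h74⟩ := chk_relJ k hk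
  exact evW2_eq_one _ (relWJ_lt k) h0 h17 h74

/-- the presented Janko group inside the presented O'Nan group -/
noncomputable def thetaJ : PJ.PG →* OG := PresentedGroup.toGroup (f := fJ) lift_relJ

theorem fJ0_ne : evW2 (imgJ 0) ≠ 1 := by
  intro h
  have h1 : phi (evW2 (imgJ 0)) 0 = 0 := by rw [h, map_one]; rfl
  rw [phi_evW2 _ (imgJ_lt 0), wordPerm_apply] at h1
  have h2 := wordV_testBit nets2OK (imgJ 0) 1 0
  rw [h1, chk_movedJ] at h2
  simp at h2

/-! ### the Mathieu group -/

/-- images of the five involutions -/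
noncomputable def fM (i : Fin 5) : OG := evW2 (imgM i.val)

theorem lift_fl_M (x : ℕ) (hx : x < 5) : FreeGroup.lift fM (PM.fl x) = evW2 (imgM x) := by
  unfold PM.fl; rw [dif_pos hx, FreeGroup.lift_apply_of]; rfl

theorem lift_relM (r : FreeGroup (Fin 5)) (hr : r ∈ PM.relSet) : FreeGroup.lift fM r = 1 := by
  obtain ⟨w, hw, rfl⟩ := hr
  rw [← evr_map (FreeGroup.lift fM) PM.fl w,
    evr_congr _ (fun x => evW2 (imgM x)) w (fun x hx => lift_fl_M x (PM.rels_lt w hw x hx)), evr_eq_prod]
  obtain ⟨k, hk, rfl⟩ := relM_idx w hw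
  have e : ((PM.rels.getD k []).reverse.map (fun x => evW2 (imgM x))).prod = evW2 (relWM k) := by
    unfold relWM; rw [evW2_flatten, List.map_map]; rfl
  rw [e]
  obtain ⟨h0, h17, h74⟩ := chk_relM k hk
  exact evW2_eq_one _ (relWM_lt k) h0 h17 h74

/-- the presented Mathieu group inside the presented O'Nan group -/
noncomputable def thetaM : PM.PG →* OG := PresentedGroup.toGroup (f := fM) lift_relM

theorem fM0_ne : evW2 (imgM 0) ≠ 1 := by
  intro h
  have h1 : phi (evW2 (imgM 0)) 0 = 0 := by rw [h, map_one]; rfl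
  rw [phi_evW2 _ (imgM_lt 0), wordPerm_apply] at h1
  have h2 := wordV_testBit nets2OK (imgM 0) 1 0
  rw [h1, chk_movedM] at h2
  simp at h2

/-! ### generalities -/

theorem injective_of_simple {P G : Type*} [Group P] [Group G] [IsSimpleGroup P] (θ : P →* G) (x : P)
    (hx : θ x ≠ 1) : Function.Injective θ := by
  rw [← MonoidHom.ker_eq_bot_iff]
  rcases (MonoidHom.normal_ker θ).eq_bot_or_eq_top with h | h
  · exact h
  · exfalso
    apply hx
    have : x ∈ θ.ker := by rw [h]; trivial
    exact MonoidHom.mem_ker.mp this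

theorem isSimple_card_map {P G H : Type*} [Group P] [Group G] [Group H] [IsSimpleGroup P] (θ : P →* G)
    (hθ : Function.Injective θ) (e : G ≃* H) :
    IsSimpleGroup ((θ.range).map e.toMonoidHom) ∧
      Nat.card ((θ.range).map e.toMonoidHom) = Nat.card P := by
  have i1 : P ≃* θ.range := MonoidHom.ofInjective hθ
  have i2 : θ.range ≃* (θ.range).map e.toMonoidHom := e.subgroupMap θ.range
  exact ⟨(i1.trans i2).symm.isSimpleGroup, Nat.card_congr (i1.trans i2).symm.toEquiv⟩

theorem thetaJ_injective : Function.Injective thetaJ := by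
  have := PJ.simple_PG
  refine injective_of_simple thetaJ (PresentedGroup.of (0 : Fin 5)) ?_
  have e : thetaJ (PresentedGroup.of (0 : Fin 5)) = fJ 0 := PresentedGroup.toGroup.of _
  rw [e]
  exact fJ0_ne

theorem thetaM_injective : Function.Injective thetaM := by
  have := PM.simple_PG
  refine injective_of_simple thetaM (PresentedGroup.of (0 : Fin 5)) ?_
  have e : thetaM (PresentedGroup.of (0 : Fin 5)) = fM 0 := PresentedGroup.toGroup.of _
  rw [e]
  exact fM0_ne

/-! ### the permutation group -/

theorem finite_OG : Finite OG := card_OG_le.1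

theorem faithfulON (g : OG) (hg : ∀ x : Fin 122760, g • x = x) : g = 1 :=
  card_and_faithful.2 g (hg 0) (hg 17) (hg 74)

theorem psi_injective : Function.Injective psi := by
  rw [← MonoidHom.ker_eq_bot_iff, Subgroup.eq_bot_iff_forall]
  intro g hg
  apply faithfulON
  intro x
  have h1 : psi g = 1 := MonoidHom.mem_ker.mp hg
  show psi g x = x
  rw [h1]
  rfl

/-- the permutation group -/
noncomputable def HP : Subgroup (Equiv.Perm (Fin 122760)) := psi.range

/-- the isomorphism with the presented group -/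
noncomputable def eHP : OG ≃* HP := MonoidHom.ofInjective psi_injective

theorem eHP_smul (g : OG) (x : Fin 122760) : (eHP g) • x = g • x := rfl

theorem isON_HP : Cfsg.IsON HP := by
  refine ⟨?_, ?_⟩
  · have := simple_OG
    exact eHP.symm.isSimpleGroup
  · rw [Nat.card_congr eHP.symm.toEquiv]
    exact card_OG

theorem finite_HP : Finite HP := by
  have := finite_OG
  exact Finite.of_equiv _ eHP.toEquiv

theorem trans_HP : MulAction.IsPretransitive HP (Fin 122760) := by
  constructor
  intro x y
  obtain ⟨g1, hg1⟩ := trans0 x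
  obtain ⟨g2, hg2⟩ := trans0 y
  refine ⟨eHP (g2 * g1⁻¹), ?_⟩
  rw [eHP_smul, mul_smul, ← hg1, inv_smul_smul, hg2]

theorem card_stab : Nat.card (MulAction.stabilizer HP (0 : Fin 122760)) = 3753792 := by
  have := finite_HP
  have := trans_HP
  have horb : MulAction.orbit HP (0 : Fin 122760) = Set.univ := MulAction.orbit_eq_univ _ _
  have h1 : Nat.card (MulAction.orbit HP (0 : Fin 122760)) = 122760 := by
    rw [horb, Nat.card_congr (Equiv.Set.univ _), Nat.card_eq_fintype_card, Fintype.card_fin]
  have h2 := Nat.card_congr (MulAction.orbitEquivQuotientStabilizer HP (0 : Fin 122760))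
  have h3 := Subgroup.card_eq_card_quotient_mul_card_subgroup (MulAction.stabilizer HP (0 : Fin 122760))
  rw [← h2, h1, isON_HP.2] at h3
  generalize Nat.card (MulAction.stabilizer HP (0 : Fin 122760)) = k at h3 ⊢
  omega

theorem main : ∃ H : Subgroup (Equiv.Perm (Fin 122760)), Cfsg.IsON H ∧
    MulAction.IsPretransitive H (Fin 122760) ∧
    Nat.card (MulAction.stabilizer H (0 : Fin 122760)) = 3753792 ∧
    (∃ K : Subgroup H, Cfsg.IsJ1 K) ∧ (∃ K : Subgroup H, Cfsg.IsM11 K) := by
  refine ⟨HP, isON_HP, trans_HP, card_stab, ?_, ?_⟩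
  · have := PJ.simple_PG
    obtain ⟨h1, h2⟩ := isSimple_card_map thetaJ thetaJ_injective eHP
    exact ⟨_, h1, by rw [h2]; exact PJ.card_PG⟩
  · have := PM.simple_PG
    obtain ⟨h1, h2⟩ := isSimple_card_map thetaM thetaM_injective eHP
    exact ⟨_, h1, by rw [h2]; exact PM.card_PG⟩

end Cfsg.Agent.Lib.Helper92.ON.Sub
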