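import Cfsg.Agent.Lib.Helper92.ON.CertChkAll
import Cfsg.Agent.Lib.Helper92.ON.Lower

/-!
# The index of `⟨a, …, f⟩` in the presented O'Nan group is at most 122760 (helper92)
-/

set_option autoImplicit false

namespace Cfsg.Agent.Lib.Helper92.ON
open Cfsg.Agent.Lib.Helper92.TCert
open Cfsg.Spor Cfsg.Spor.ON

/-- the presented group -/
abbrev OG : Type := PresentedGroup onRels

/-- image of a generator -/
noncomputable def og (x : Gen) : OG := PresentedGroup.of x

/-- values of the eight letters -/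
noncomputable def lv (x : ℕ) : OG :=
  match x with
  | 0 => og .a | 1 => og .b | 2 => og .c | 3 => og .d | 4 => og .e | 5 => og .f | 6 => og .g
  | 7 => (og .g)⁻¹ | _ => 1

theorem mk_rel {r : FreeGroup Gen} (h : r ∈ onRels) : PresentedGroup.mk onRels r = 1 :=
  PresentedGroup.one_of_mem h

theorem cox_mem (x y : Gen) (hx : x ∈ coxNodes edges) (hy : y ∈ coxNodes edges) :
    (FreeGroup.of x * FreeGroup.of y) ^ coxLabel edges x y ∈ onRels :=
  Or.inl ⟨x, hx, y, hy, rfl⟩

theorem cox_rel (x y : Gen) (hx : x ∈ coxNodes edges) (hy : y ∈ coxNodes edges) :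
    (og x * og y) ^ coxLabel edges x y = 1 := by
  have := mk_rel (cox_mem x y hx hy)
  rwa [map_pow, map_mul] at this

theorem og_sq (x : Gen) (hx : x ∈ coxNodes edges) : og x * og x = 1 := by
  have h := cox_rel x x hx hx
  have e : coxLabel edges x x = 1 := by simp [coxLabel]
  rwa [e, pow_one] at h

theorem og_inv (x : Gen) (hx : x ∈ coxNodes edges) : (og x)⁻¹ = og x :=
  inv_eq_of_mul_eq_one_left (og_sq x hx)

theorem nodeA : Gen.a ∈ coxNodes edges := by simp [coxNodes, edges]
theorem nodeB : Gen.b ∈ coxNodes edges := by simp [coxNodes, edges]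
theorem nodeC : Gen.c ∈ coxNodes edges := by simp [coxNodes, edges]
theorem nodeD : Gen.d ∈ coxNodes edges := by simp [coxNodes, edges]
theorem nodeE : Gen.e ∈ coxNodes edges := by simp [coxNodes, edges]
theorem nodeF : Gen.f ∈ coxNodes edges := by simp [coxNodes, edges]

/-- the relators in acting order (the written words reversed) -/
def relsA : List (List ℕ) :=
  [[1, 0, 1, 0, 1, 0], [2, 0, 2, 0], [3, 0, 3, 0], [4, 0, 4, 0], [5, 0, 5, 0], [2, 1, 2, 1, 2, 1],
   [3, 1, 3, 1], [4, 1, 4, 1], [5, 1, 5, 1], [3, 2, 3, 2, 3, 2, 3, 2, 3, 2, 3, 2, 3, 2, 3, 2],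
   [4, 2, 4, 2], [5, 2, 5, 2], [4, 3, 4, 3, 4, 3], [5, 3, 5, 3], [5, 4, 5, 4, 5, 4], [7, 7, 5, 0],
   [2, 3, 2, 3, 2, 3, 2, 3, 5, 0], [6, 3, 6, 3, 2, 3, 7, 3, 7, 2], [6, 2, 6, 2, 3, 2, 7, 2, 7, 3],
   [6, 3, 2, 1, 6, 3, 2, 1, 6, 3, 2, 1, 6, 3, 2, 1, 6, 3, 2, 1], [2, 6, 2, 1, 6, 1, 2, 6, 2, 1, 6],
   [3, 6, 3, 4, 6, 4, 3, 6, 3, 4, 6]]

theorem extra_mem {r : FreeGroup Gen} (h : r ∈ extra) : r ∈ onRels := Or.inr h

theorem relsA_one : ∀ w ∈ relsA, evr lv w = 1 := by
  intro w hw
  simp only [relsA, List.mem_cons, List.not_mem_nil, or_false] at hw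
  have iA := og_inv _ nodeA
  have iB := og_inv _ nodeB
  have iC := og_inv _ nodeC
  have iD := og_inv _ nodeD
  have iE := og_inv _ nodeE
  have iF := og_inv _ nodeF
  rcases hw with rfl | rfl | rfl | rfl | rfl | rfl | rfl | rfl | rfl | rfl | rfl | rfl | rfl | rfl |
    rfl | rfl | rfl | rfl | rfl | rfl | rfl | rfl
  · have h := cox_rel .a .b nodeA nodeB
    have e : coxLabel edges .a .b = 3 := rfl
    rw [e] at h; simpa [evr, lv, pow_succ, mul_assoc] using h
  · have h := cox_rel .a .c nodeA nodeC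
    have e : coxLabel edges .a .c = 2 := rfl
    rw [e] at h; simpa [evr, lv, pow_succ, mul_assoc] using h
  · have h := cox_rel .a .d nodeA nodeD
    have e : coxLabel edges .a .d = 2 := rfl
    rw [e] at h; simpa [evr, lv, pow_succ, mul_assoc] using h
  · have h := cox_rel .a .e nodeA nodeE
    have e : coxLabel edges .a .e = 2 := rfl
    rw [e] at h; simpa [evr, lv, pow_succ, mul_assoc] using h
  · have h := cox_rel .a .f nodeA nodeF
    have e : coxLabel edges .a .f = 2 := rfl
    rw [e] at h; simpa [evr, lv, pow_succ, mul_assoc] using h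
  · have h := cox_rel .b .c nodeB nodeC
    have e : coxLabel edges .b .c = 3 := rfl
    rw [e] at h; simpa [evr, lv, pow_succ, mul_assoc] using h
  · have h := cox_rel .b .d nodeB nodeD
    have e : coxLabel edges .b .d = 2 := rfl
    rw [e] at h; simpa [evr, lv, pow_succ, mul_assoc] using h
  · have h := cox_rel .b .e nodeB nodeE
    have e : coxLabel edges .b .e = 2 := rfl
    rw [e] at h; simpa [evr, lv, pow_succ, mul_assoc] using h
  · have h := cox_rel .b .f nodeB nodeF
    have e : coxLabel edges .b .f = 2 := rfl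
    rw [e] at h; simpa [evr, lv, pow_succ, mul_assoc] using h
  · have h := cox_rel .c .d nodeC nodeD
    have e : coxLabel edges .c .d = 8 := rfl
    rw [e] at h; simpa [evr, lv, pow_succ, mul_assoc] using h
  · have h := cox_rel .c .e nodeC nodeE
    have e : coxLabel edges .c .e = 2 := rfl
    rw [e] at h; simpa [evr, lv, pow_succ, mul_assoc] using h
  · have h := cox_rel .c .f nodeC nodeF
    have e : coxLabel edges .c .f = 2 := rfl
    rw [e] at h; simpa [evr, lv, pow_succ, mul_assoc] using h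
  · have h := cox_rel .d .e nodeD nodeE
    have e : coxLabel edges .d .e = 3 := rfl
    rw [e] at h; simpa [evr, lv, pow_succ, mul_assoc] using h
  · have h := cox_rel .d .f nodeD nodeF
    have e : coxLabel edges .d .f = 2 := rfl
    rw [e] at h; simpa [evr, lv, pow_succ, mul_assoc] using h
  · have h := cox_rel .e .f nodeE nodeF
    have e : coxLabel edges .e .f = 3 := rfl
    rw [e] at h; simpa [evr, lv, pow_succ, mul_assoc] using h
  · -- a f g⁻¹ g⁻¹
    have h := mk_rel (extra_mem (r := (a * f) * ((g ^ 2)⁻¹)) (by simp [extra]))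
    simp only [map_mul, map_inv, map_pow] at h
    change og .a * og .f * ((og .g) ^ 2)⁻¹ = 1 at h
    simpa [evr, lv, pow_succ, mul_assoc, mul_inv_rev] using h
  · -- a f (d c)^4
    have h := mk_rel (extra_mem (r := (a * f) * (((c * d) ^ 4)⁻¹)) (by simp [extra]))
    simp only [map_mul, map_inv, map_pow] at h
    change og .a * og .f * ((og .c * og .d) ^ 4)⁻¹ = 1 at h
    simpa [evr, lv, pow_succ, mul_assoc, mul_inv_rev, iC, iD] using h
  · -- c g⁻¹ d g⁻¹ d c d g d g
    have h := mk_rel (extra_mem (r := c * ((d * g * d * g)⁻¹ * c * (d * g * d * g))) (by simp [extra]))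
    simp only [map_mul, map_inv, map_pow] at h
    change og .c * ((og .d * og .g * og .d * og .g)⁻¹ * og .c * (og .d * og .g * og .d * og .g)) = 1 at h
    simpa [evr, lv, pow_succ, mul_assoc, mul_inv_rev, iC, iD] using h
  · have h := mk_rel (extra_mem (r := d * ((c * g * c * g)⁻¹ * d * (c * g * c * g))) (by simp [extra]))
    simp only [map_mul, map_inv, map_pow] at h
    change og .d * ((og .c * og .g * og .c * og .g)⁻¹ * og .d * (og .c * og .g * og .c * og .g)) = 1 at h
    simpa [evr, lv, pow_succ, mul_assoc, mul_inv_rev, iC, iD] using h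
  · have h := mk_rel (extra_mem (r := (b * c * d * g) ^ 5) (by simp [extra]))
    simp only [map_mul, map_inv, map_pow] at h
    change (og .b * og .c * og .d * og .g) ^ 5 = 1 at h
    simpa [evr, lv, pow_succ, mul_assoc] using h
  · have h := mk_rel (extra_mem (r := g * b * (c⁻¹ * g * c) * (b⁻¹ * g * b) * (c⁻¹ * g * c)) (by simp [extra]))
    simp only [map_mul, map_inv, map_pow] at h
    change og .g * og .b * ((og .c)⁻¹ * og .g * og .c) * ((og .b)⁻¹ * og .g * og .b) * ((og .c)⁻¹ * og .g * og .c) = 1 at h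
    simpa [evr, lv, mul_assoc, iB, iC] using h
  · have h := mk_rel (extra_mem (r := g * e * (d⁻¹ * g * d) * (e⁻¹ * g * e) * (d⁻¹ * g * d)) (by simp [extra]))
    simp only [map_mul, map_inv, map_pow] at h
    change og .g * og .e * ((og .d)⁻¹ * og .g * og .d) * ((og .e)⁻¹ * og .g * og .e) * ((og .d)⁻¹ * og .g * og .d) = 1 at h
    simpa [evr, lv, mul_assoc, iD, iE] using h


theorem evr_rotate (lv : ℕ → OG) (w : List ℕ) (p : ℕ) (h : evr lv w = 1) : evr lv (w.rotate p) = 1 := by
  rw [List.rotate_eq_drop_append_take_mod, evr_append]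
  have e : evr lv w = evr lv (List.drop (p % w.length) w) * evr lv (List.take (p % w.length) w) := by
    conv_lhs => rw [← List.take_append_drop (p % w.length) w]
    rw [evr_append]
  rw [e] at h
  exact mul_eq_one_comm.mp h

/-- the word of a rotation code -/
noncomputable def rotWord (rid : ℕ) : List ℕ :=
  rX (rot rid) :: unpack (rLen (rot rid)) (rW (rot rid))

/-- all rotations of all relators -/
def allRots : List (List ℕ) :=
  relsA.flatMap fun w => (List.range w.length).map fun p => w.rotate p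

set_option maxRecDepth 100000 in
theorem rot_ok : (List.range 156).map rotWord = allRots := by decide +kernel

theorem rot_one (rid : ℕ) (h : rid < nR) : evr lv (rotWord rid) = 1 := by
  have h' : rid < 156 := h
  have hmem : rotWord rid ∈ allRots := by
    rw [← rot_ok]
    exact List.mem_map.mpr ⟨rid, List.mem_range.mpr h', rfl⟩
  unfold allRots at hmem
  rw [List.mem_flatMap] at hmem
  obtain ⟨w, hw, hm⟩ := hmem
  rw [List.mem_map] at hm
  obtain ⟨p, _, hp⟩ := hm
  rw [← hp]
  exact evr_rotate lv w p (relsA_one w hw)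

theorem lv_ic (x : ℕ) (hx : x < 8) : lv (ic x) = (lv x)⁻¹ := by
  have iA := og_inv _ nodeA
  have iB := og_inv _ nodeB
  have iC := og_inv _ nodeC
  have iD := og_inv _ nodeD
  have iE := og_inv _ nodeE
  have iF := og_inv _ nodeF
  interval_cases x
  · exact iA.symm
  · exact iB.symm
  · exact iC.symm
  · exact iD.symm
  · exact iE.symm
  · exact iF.symm
  · rfl
  · show og .g = ((og .g)⁻¹)⁻¹
    rw [inv_inv]

theorem lv_sub (x : ℕ) (hx : x < 6) : lv x ∈ onH := by
  have key : ∀ y : Gen, FreeGroup.of y ∈ ({a, b, c, d, e, f} : Set (FreeGroup Gen)) → og y ∈ onH :=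
    fun y hy => ⟨FreeGroup.of y, Subgroup.subset_closure hy, rfl⟩
  interval_cases x
  · exact key .a (by simp [a])
  · exact key .b (by simp [b])
  · exact key .c (by simp [c])
  · exact key .d (by simp [d])
  · exact key .e (by simp [e])
  · exact key .f (by simp [f])

set_option maxRecDepth 100000 in
theorem dp0 : fDp (row 0) = 0 := by decide +kernel

theorem hypON : Hyp onH lv row rot 8 nR 6 nN where
  hN := by decide
  hrow := fun u h => rowOf_ge trie nN u h
  hdp0 := dp0
  hrot := rot_one
  hsub := lv_sub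
  hic := lv_ic
  hS := fun u hu x hx => (chkNode_spec row rot 8 nR 6 u (chk_nodes u hu)).2 x hx
  hQ := fun u hu => (chkNode_spec row rot 8 nR 6 u (chk_nodes u hu)).1

theorem lv_gen : Subgroup.closure (lv '' {x | x < 7}) = ⊤ := by
  rw [eq_top_iff, ← PresentedGroup.closure_range_of]
  apply Subgroup.closure_mono
  rintro _ ⟨y, rfl⟩
  cases y
  · exact ⟨6, by norm_num, rfl⟩
  · exact ⟨0, by norm_num, rfl⟩
  · exact ⟨1, by norm_num, rfl⟩
  · exact ⟨2, by norm_num, rfl⟩
  · exact ⟨3, by norm_num, rfl⟩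
  · exact ⟨4, by norm_num, rfl⟩
  · exact ⟨5, by norm_num, rfl⟩

/-- the index is finite and at most 122760 -/
theorem card_le : Finite (OG ⧸ onH) ∧ Nat.card (OG ⧸ onH) ≤ 122760 :=
  card_quotient_le hypON nC 7 1048575 (by decide) (by decide) (by norm_num) lv_gen
    (fun c hc x hx => chkFin_spec row 8 nC 1048575 c (chk_fin c hc) x hx)

/-- the index of `⟨a, …, f⟩` -/
theorem index_eq : onH.index = 122760 := by
  obtain ⟨hfin, hle⟩ := card_le
  have hge := @card_ge hfin
  rw [Subgroup.index]
  exact le_antisymm hle hge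

end Cfsg.Agent.Lib.Helper92.ON
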